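import Cfsg.Agent.H363.L4.LinMult
import Cfsg.Agent.H363.PslTorus

/-!
# Element orders of `PSL_4(q)`, `q` a power of 2 or 3 (helper363)
-/

set_option autoImplicit false
set_option linter.unusedSectionVars false

namespace Cfsg.Agent.H363.L4

open Polynomial Function Cfsg.Agent.H403 NumTop

section

variable {F : Type*} [Field F] [Fintype F]

/-- `PSL_4(F)` -/
abbrev L4 (F : Type*) [Field F] := Matrix.ProjectiveSpecialLinearGroup (Fin 4) F

/-- the group has elements of order a given divisor -/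
theorem exists_order_of_dvd {G : Type*} [Group G] [Finite G] {g : G} {N : ℕ} (h : N ∣ orderOf g) (hN : N ≠ 0) :
    ∃ x : G, orderOf x = N := by
  obtain ⟨m, hm⟩ := h
  have hm0 : m ≠ 0 := by
    rintro rfl
    rw [mul_zero] at hm
    exact (orderOf_pos g).ne' hm
  refine ⟨g ^ m, ?_⟩
  rw [orderOf_pow_of_dvd hm0 (by rw [hm]; exact dvd_mul_left m N), hm, Nat.mul_div_cancel _ (Nat.pos_of_ne_zero hm0)]

/-- matrices of the elements -/
theorem exists_mat (E : Type*) [Field E] [IsAlgClosed E] [Algebra F E] (g : L4 F) :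
    ∃ M : Matrix (Fin 4) (Fin 4) F, M.det = 1 ∧ Cl ((Fintype.card F : ℕ) : ℤ) (evs E M) ∧
      ∀ j : ℕ, g ^ j = 1 ↔ ∃ c : F, M ^ j = c • (1 : Matrix (Fin 4) (Fin 4) F) := by
  obtain ⟨M, h1, h2, h3⟩ := lin_psl (E := E) rfl g
  exact ⟨M, h1, h2, h3⟩

theorem isPow {p : ℕ} (hp : p.Prime) [CharP F p] : ∃ a : ℕ, 1 ≤ a ∧ Fintype.card F = p ^ a := by
  obtain ⟨a, hpp, ha⟩ := FiniteField.card F p
  exact ⟨a, a.pos, ha⟩

end

/-! ### the multiset of eigenvalues of an element of order `k p ^ b` -/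

section

variable {F : Type*} [Field F] [Fintype F] {E : Type*} [Field E] [IsAlgClosed E] [Algebra F E]

theorem charP_ext {p : ℕ} [CharP F p] : CharP E p :=
  charP_of_injective_algebraMap (algebraMap F E).injective p

/-- the `k`-th powers of the eigenvalues are equal, and in `F` -/
theorem exists_const {p : ℕ} (hp : p.Prime) [CharP F p] {M : Matrix (Fin 4) (Fin 4) F}
    (hM : Cl ((Fintype.card F : ℕ) : ℤ) (evs E M)) {k b : ℕ} {ζ : F}
    (h : M ^ (k * p ^ b) = ζ • (1 : Matrix (Fin 4) (Fin 4) F)) :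
    ∃ c : F, c ≠ 0 ∧ ∀ z ∈ evs E M, z ^ k = algebraMap F E c := by
  have : CharP E p := charP_ext (F := F)
  have := Fact.mk hp
  obtain ⟨y, hy⟩ := exists_mem_evs (E := E) (n := 4) (by norm_num) M
  have h1 : ∀ z ∈ evs E M, (z ^ k) ^ p ^ b = algebraMap F E ζ := fun z hz => by
    rw [← pow_mul]; exact pow_of_mem_evs E h hz
  have hinj : ∀ u v : E, u ^ p ^ b = v ^ p ^ b → u = v := fun u v huv =>
    iterateFrobenius_inj E p b (by simpa [iterateFrobenius_def] using huv)
  have hall : ∀ z ∈ evs E M, z ^ k = y ^ k := fun z hz => hinj _ _ ((h1 z hz).trans (h1 y hy).symm)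
  have hfix : (y ^ k) ^ xv true (Fintype.card F) = y ^ k := by
    have h2 := hall _ (hM.mem hy)
    rwa [zpow_pow_comm] at h2
  have h0 : y ^ k ≠ 0 := pow_ne_zero _ (hM.ne_zero hy)
  obtain ⟨c, hc⟩ := mem_range_of_fix (F := F) (e := true) (q := Fintype.card F) (by simp) h0 hfix
  refine ⟨c, fun h2 => h0 (by rw [← hc, h2, map_zero]), fun z hz => by rw [hall z hz, hc]⟩

/-- all eigenvalues equal -/
theorem orderOf_dvd_of_const {p : ℕ} (hp : p.Prime) [CharP F p] [DecidableEq E] {g : L4 F}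
    {M : Matrix (Fin 4) (Fin 4) F}
    (hg : ∀ j : ℕ, g ^ j = 1 ↔ ∃ c : F, M ^ j = c • (1 : Matrix (Fin 4) (Fin 4) F)) {k a : ℕ} (hk : 0 < k) {c : F}
    (h : ∀ z ∈ evs E M, z ^ k = algebraMap F E c) (hc : ∀ y ∈ evs E M, (evs E M).count y ≤ p ^ a) :
    orderOf g ∣ k * p ^ a :=
  orderOf_dvd_of_pow_eq_one ((hg _).2 ⟨_, pow_of_count (E := E) hp hk h hc⟩)

/-- multiplicity larger than two -/
theorem fix_of_count [DecidableEq E] {R : Multiset E} {x : ℤ} (hR : Cl x R) (hc : Multiset.card R = 4) {y : E}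
    (hy : 2 < R.count y) : y ^ x = y := by
  by_contra hne
  have h1 : R.count (y ^ x) = R.count y := by
    conv_lhs => rw [← hR.map]
    exact Multiset.count_map_eq_count' (fun z : E => z ^ x) R hR.inj y
  have h2 : Multiset.replicate (R.count y) y + Multiset.replicate (R.count y) (y ^ x) ≤ R := by
    rw [Multiset.le_iff_count]
    intro z
    rw [Multiset.count_add, Multiset.count_replicate, Multiset.count_replicate]
    by_cases hz : y = z
    · subst hz
      rw [if_pos rfl, if_neg hne]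
      omega
    · rw [if_neg hz]
      by_cases hz' : y ^ x = z
      · subst hz'
        rw [if_pos rfl, h1]
        omega
      · rw [if_neg hz']
        omega
  have h3 := Multiset.card_le_card h2
  rw [Multiset.card_add, Multiset.card_replicate, Multiset.card_replicate, hc] at h3
  omega

/-- the fourth eigenvalue -/
theorem eq_cons_of_count [DecidableEq E] {R : Multiset E} {x : ℤ} (hR : Cl x R) (hc : Multiset.card R = 4) {y : E}
    (hy : 2 < R.count y) : ∃ z : E, R = z ::ₘ Multiset.replicate 3 y ∧ z ^ x = z := by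
  have h1 : Multiset.replicate 3 y ≤ R := Multiset.le_count_iff_replicate_le.1 (by omega)
  obtain ⟨T, hT⟩ := Multiset.le_iff_exists_add.1 h1
  have h2 : Multiset.card T = 1 := by
    have := congrArg Multiset.card hT
    rw [Multiset.card_add, Multiset.card_replicate, hc] at this
    omega
  obtain ⟨z, rfl⟩ := Multiset.card_eq_one.1 h2
  have h3 : R = z ::ₘ Multiset.replicate 3 y := by rw [hT, add_comm, Multiset.singleton_add]
  refine ⟨z, h3, ?_⟩
  have h4 := hR.map
  rw [h3, Multiset.map_cons, Multiset.map_replicate, fix_of_count hR hc hy] at h4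
  exact (Multiset.cons_inj_left _).1 h4

theorem card_evs4 (M : Matrix (Fin 4) (Fin 4) F) : Multiset.card (evs E M) = 4 := by
  rw [card_evs, Fintype.card_fin]

/-- multiplicity four -/
theorem eq_of_count_four [DecidableEq E] {R : Multiset E} (hc : Multiset.card R = 4) {y : E}
    (hy : 3 < R.count y) {z : E} (hz : z ∈ R) : z = y := by
  have h1 : Multiset.replicate 4 y ≤ R := Multiset.le_count_iff_replicate_le.1 (by omega)
  have h2 : Multiset.replicate 4 y = R := Multiset.eq_of_le_of_card_le h1 (by rw [hc, Multiset.card_replicate])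
  rw [← h2] at hz
  exact Multiset.eq_of_mem_replicate hz

end

section

variable {F : Type*} [Field F] [Fintype F]

/-- **No elements of order 8 in characteristic two.** -/
theorem not_eight [CharP F 2] (g : L4 F) : ¬ 8 ∣ orderOf g := by
  classical
  intro h8
  obtain ⟨x, hx⟩ := exists_order_of_dvd h8 (by norm_num)
  obtain ⟨M, hdet, hM, hg⟩ := exists_mat (AlgebraicClosure F) x
  obtain ⟨ζ, hζ⟩ := (hg 8).1 (by rw [← hx]; exact pow_orderOf_eq_one x)
  obtain ⟨c, hc0, hc⟩ := exists_const Nat.prime_two hM (k := 1) (b := 3) (by norm_num; exact hζ)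
  have h1 := orderOf_dvd_of_const (E := AlgebraicClosure F) Nat.prime_two hg (k := 1) (a := 2) (by norm_num) hc fun y _ => by
    have := Multiset.count_le_card y (evs (AlgebraicClosure F) M)
    rw [card_evs4] at this
    norm_num
    exact this
  rw [hx] at h1
  norm_num at h1

/-- **No elements of order `4 w`**, `w` an odd prime not dividing `q - 1`, in characteristic two. -/
theorem not_four_mul [CharP F 2] (g : L4 F) {w : ℕ} (hw : w.Prime) (hw2 : w ≠ 2)
    (hwq : ¬ w ∣ Fintype.card F - 1) : ¬ 4 * w ∣ orderOf g := by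
  classical
  intro h8
  obtain ⟨x, hx⟩ := exists_order_of_dvd h8 (by have := hw.pos; omega)
  obtain ⟨M, hdet, hM, hg⟩ := exists_mat (AlgebraicClosure F) x
  obtain ⟨ζ, hζ⟩ := (hg (4 * w)).1 (by rw [← hx]; exact pow_orderOf_eq_one x)
  obtain ⟨c, hc0, hc⟩ := exists_const Nat.prime_two hM (k := w) (b := 2)
    (by rw [mul_comm]; norm_num; exact hζ)
  by_cases hmul : ∀ y ∈ evs (AlgebraicClosure F) M, (evs (AlgebraicClosure F) M).count y ≤ 2
  · have h1 := orderOf_dvd_of_const (E := AlgebraicClosure F) Nat.prime_two hg (a := 1) hw.pos hc (by simpa using hmul)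
    rw [hx, pow_one, mul_comm] at h1
    have h2 := Nat.le_of_dvd (by have := hw.pos; omega) h1
    have := hw.pos
    omega
  · push Not at hmul
    obtain ⟨y, hy, hy2⟩ := hmul
    have hyx := fix_of_count hM (card_evs4 M) hy2
    have hq : 2 ≤ Fintype.card F := Fintype.one_lt_card
    have hy0 := hM.ne_zero hy
    obtain ⟨z, hz, hzx⟩ := eq_cons_of_count hM (card_evs4 M) hy2
    have hzR : z ∈ evs (AlgebraicClosure F) M := by rw [hz]; exact Multiset.mem_cons_self _ _
    have hz0 := hM.ne_zero hzR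
    have hy1 : y ^ (Fintype.card F - 1) = 1 := by
      have := pow_AA_of_fix (e := true) (q := Fintype.card F) (by omega) hy0 hyx
      rwa [AA_one] at this
    have hz1 : z ^ (Fintype.card F - 1) = 1 := by
      have := pow_AA_of_fix (e := true) (q := Fintype.card F) (by omega) hz0 hzx
      rwa [AA_one] at this
    have hzy : z = y := by
      have h1 : (z / y) ^ Nat.gcd w (Fintype.card F - 1) = 1 := by
        rw [pow_gcd_eq_one, div_pow, div_pow, hc z hzR, hc y hy, hz1, hy1, div_one]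
        have h2 : algebraMap F (AlgebraicClosure F) c ≠ 0 := by rw [← hc y hy]; exact pow_ne_zero _ hy0
        exact ⟨div_self h2, rfl⟩
      rw [(Nat.Prime.coprime_iff_not_dvd hw).2 hwq, pow_one] at h1
      exact (div_eq_one_iff_eq hy0).1 h1
    obtain ⟨c', hc'⟩ := mem_range_of_fix (F := F) (e := true) (q := Fintype.card F) (by simp) hy0 hyx
    have h1 := orderOf_dvd_of_const (E := AlgebraicClosure F) Nat.prime_two hg (k := 1) (a := 2) (c := c') (by norm_num) (fun u hu => by
      rw [pow_one, hc', ← hzy]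
      rw [hz, Multiset.mem_cons] at hu
      rcases hu with rfl | hu
      · rfl
      · rw [hzy]; exact Multiset.eq_of_mem_replicate hu) fun y _ => by
      have := Multiset.count_le_card y (evs (AlgebraicClosure F) M)
      rw [card_evs4] at this
      norm_num
      exact this
    rw [hx] at h1
    have h2 := Nat.le_of_dvd (by norm_num) h1
    have := hw.two_le
    omega

/-- `9 ∣ o(g)` only if `o(g) = 9`, in characteristic three. -/
theorem eq_nine [CharP F 3] (g : L4 F) (h9 : 9 ∣ orderOf g) : orderOf g = 9 := by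
  classical
  obtain ⟨m, hm⟩ := h9
  have h0 := orderOf_pos g
  obtain ⟨M, hdet, hM, hg⟩ := exists_mat (AlgebraicClosure F) g
  obtain ⟨b, t, ht, hN⟩ := Nat.exists_eq_pow_mul_and_not_dvd (n := orderOf g) h0.ne' 3 (by norm_num)
  have ht0 : 0 < t := Nat.pos_of_ne_zero fun h => ht (by rw [h]; exact dvd_zero 3)
  obtain ⟨ζ, hζ⟩ := (hg (t * 3 ^ b)).1 (by rw [mul_comm, ← hN]; exact pow_orderOf_eq_one g)
  obtain ⟨c, hc0, hc⟩ := exists_const Nat.prime_three hM hζ
  by_cases hmul : ∀ y ∈ evs (AlgebraicClosure F) M, (evs (AlgebraicClosure F) M).count y ≤ 3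
  · exfalso
    have h1 := orderOf_dvd_of_const (E := AlgebraicClosure F) Nat.prime_three hg (a := 1) ht0 hc (by simpa using hmul)
    rw [hm, pow_one, show 9 * m = 3 * (3 * m) by ring, mul_comm t 3] at h1
    have h2 := Nat.dvd_of_mul_dvd_mul_left (by norm_num) h1
    exact ht ((dvd_mul_right 3 m).trans h2)
  · push Not at hmul
    obtain ⟨y, hy, hy2⟩ := hmul
    have hyx := fix_of_count hM (card_evs4 M) (y := y) (by omega)
    obtain ⟨c', hc'⟩ := mem_range_of_fix (F := F) (e := true) (q := Fintype.card F) (by simp) (hM.ne_zero hy) hyx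
    have h1 := orderOf_dvd_of_const (E := AlgebraicClosure F) Nat.prime_three hg (k := 1) (a := 2) (c := c') (by norm_num) (fun u hu => by
      rw [pow_one, hc', eq_of_count_four (card_evs4 M) hy2 hu]) fun y _ => by
      have := Multiset.count_le_card y (evs (AlgebraicClosure F) M)
      rw [card_evs4] at this
      norm_num
      omega
    norm_num at h1
    refine Nat.dvd_antisymm h1 ?_
    rw [hm]
    exact dvd_mul_right 9 m

theorem not_27 [CharP F 3] (g : L4 F) : ¬ 27 ∣ orderOf g := by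
  intro h
  have h1 := eq_nine g ((by norm_num : 9 ∣ 27).trans h)
  rw [h1] at h
  norm_num at h

theorem not_nine_mul [CharP F 3] (g : L4 F) {w : ℕ} (hw : 2 ≤ w) : ¬ 9 * w ∣ orderOf g := by
  intro h
  have h1 := eq_nine g ((dvd_mul_right 9 w).trans h)
  rw [h1] at h
  have := Nat.le_of_dvd (by norm_num) h
  omega

theorem fourth_of_eight {G : Type*} [Group G] {z : G} {a b : ℕ} (hb : b % 2 = 1) (h1 : z ^ (a * 2) = 1)
    (h2 : z ^ (a * b) = 1) : z ^ a = 1 := by
  have h3 : Nat.gcd 2 b = 1 := by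
    rw [Nat.gcd_rec, hb]
    norm_num
  have h4 := pow_gcd_eq_one.2 ⟨h1, h2⟩
  rwa [Nat.gcd_mul_left, h3, mul_one] at h4

/-- **No elements of order 24** if `q = 3 ^ k`, `k` odd. -/
theorem not_24 [CharP F 3] (hq8 : Fintype.card F % 8 = 3) (g : L4 F) : ¬ 24 ∣ orderOf g := by
  classical
  intro h24
  obtain ⟨x, hx⟩ := exists_order_of_dvd h24 (by norm_num)
  obtain ⟨M, hdet, hM, hg⟩ := exists_mat (AlgebraicClosure F) x
  obtain ⟨ζ, hζ⟩ := (hg 24).1 (by rw [← hx]; exact pow_orderOf_eq_one x)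
  obtain ⟨c, hc0, hc⟩ := exists_const Nat.prime_three hM (k := 8) (b := 1) (by norm_num; exact hζ)
  have hcE : algebraMap F (AlgebraicClosure F) c ≠ 0 := by
    rw [Ne, map_eq_zero]; exact hc0
  have hcard := card_evs4 (E := AlgebraicClosure F) M
  set R := evs (AlgebraicClosure F) M with hR
  set q := Fintype.card F with hq
  have hq2 : 3 ≤ q := by omega
  -- it suffices that the fourth powers are equal, and fixed
  have key : ∀ (y : AlgebraicClosure F), y ∈ R → (y ^ 4) ^ ((q : ℕ) : ℤ) = y ^ 4 → (∀ z ∈ R, z ^ 4 = y ^ 4) → False := by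
    intro y hy hyx hall
    have hy0 := hM.ne_zero hy
    obtain ⟨c', hc'⟩ := mem_range_of_fix (F := F) (e := true) (q := q) (by simp [hq]) (pow_ne_zero 4 hy0) hyx
    by_cases hmul : ∀ y ∈ R, R.count y ≤ 3
    · have h1 := orderOf_dvd_of_const (E := AlgebraicClosure F) Nat.prime_three hg (a := 1) (k := 4) (c := c') (by norm_num)
        (fun z hz => by rw [hall z hz, hc']) (by simpa using hmul)
      rw [hx] at h1
      norm_num at h1
    · push Not at hmul
      obtain ⟨u, hu, hu2⟩ := hmul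
      have hux := fix_of_count hM hcard (y := u) (by omega)
      obtain ⟨c'', hc''⟩ := mem_range_of_fix (F := F) (e := true) (q := q) (by simp [hq]) (hM.ne_zero hu) hux
      have h1 := orderOf_dvd_of_const (E := AlgebraicClosure F) Nat.prime_three hg (k := 1) (a := 2) (c := c'') (by norm_num) (fun v hv => by
        rw [pow_one, hc'', eq_of_count_four hcard hu2 hv]) fun y _ => by
        have := Multiset.count_le_card y R
        rw [← hR]
        norm_num
        omega
      rw [hx] at h1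
      norm_num at h1
  -- a double eigenvalue
  have hdup : ¬ R.Nodup := by
    intro hnd
    have h1 := orderOf_dvd_of_pow_eq_one ((hg 8).2 ⟨c, pow_eq_smul_of_nodup (AlgebraicClosure F) (by norm_num) hnd hc⟩)
    rw [hx] at h1
    norm_num at h1
  rw [Multiset.nodup_iff_count_le_one] at hdup
  push Not at hdup
  obtain ⟨μ, hμ⟩ := hdup
  have hμR : μ ∈ R := Multiset.count_pos.1 (by omega)
  have hμ0 := hM.ne_zero hμR
  obtain ⟨a, ha⟩ : ∃ a, q = 8 * a + 3 := ⟨q / 8, by omega⟩
  have hprod : R.prod = 1 := by rw [hR, prod_evs, hdet, map_one]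
  have hμ8 : (μ ^ 8) ^ ((q : ℕ) : ℤ) = μ ^ 8 := by
    rw [← zpow_pow_comm, hc _ (hM.mem hμR), hc _ hμR]
  obtain ⟨T, hT⟩ := Multiset.le_iff_exists_add.1 (Multiset.le_count_iff_replicate_le.1 (show 2 ≤ R.count μ by omega))
  have hTc : Multiset.card T = 2 := by
    have := congrArg Multiset.card hT
    rw [Multiset.card_add, Multiset.card_replicate, hcard] at this
    omega
  by_cases hμx : μ ^ ((q : ℕ) : ℤ) = μ
  · -- `μ ∈ F`
    obtain ⟨ν, ρ, hνρ⟩ := Multiset.card_eq_two.1 hTc
    subst hνρ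
    have hνR : ν ∈ R := by rw [hT]; simp
    have hρR : ρ ∈ R := by rw [hT]; simp
    have hν0 := hM.ne_zero hνR
    have hρ0 := hM.ne_zero hρR
    have hmap := hM.map
    rw [hT, Multiset.map_add, Multiset.map_replicate, hμx] at hmap
    have hmap2 := add_left_cancel hmap
    simp only [Multiset.insert_eq_cons, Multiset.map_cons, Multiset.map_singleton] at hmap2
    have hp2 : μ ^ 2 * (ν * ρ) = 1 := by
      rw [hT, Multiset.prod_add, Multiset.prod_replicate] at hprod
      simpa using hprod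
    have hμq : μ ^ (2 * (4 * a + 1)) = 1 := by
      have := pow_AA_of_fix (e := true) (q := q) (by omega) hμ0 hμx
      rw [AA_one] at this
      simp only [cond_true] at this
      rw [← this]; congr 1; omega
    have h8 : ∀ z ∈ R, ((z / μ) ^ 4) ^ 2 = 1 := fun z hz => by
      rw [← pow_mul, div_pow, hc z hz, hc μ hμR, div_self hcE]
    have hfix : ∀ z ∈ R, z ^ ((q : ℕ) : ℤ) = z → z ^ 4 = μ ^ 4 := by
      intro z hz hzx
      have hz0 := hM.ne_zero hz
      have hzq : z ^ (2 * (4 * a + 1)) = 1 := by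
        have := pow_AA_of_fix (e := true) (q := q) (by omega) hz0 hzx
        rw [AA_one] at this
        simp only [cond_true] at this
        rw [← this]; congr 1; omega
      have h1 : ((z / μ) ^ 4) ^ (4 * a + 1) = 1 := by
        rw [← pow_mul, show 4 * (4 * a + 1) = 2 * (4 * a + 1) * 2 by ring, pow_mul, div_pow, hzq, hμq, div_one, one_pow]
      have h2 := h8 z hz
      have h3 : (z / μ) ^ 4 = 1 := by
        calc (z / μ) ^ 4 = (((z / μ) ^ 4) ^ 2) ^ (2 * a) * (z / μ) ^ 4 := by rw [h2, one_pow, one_mul]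
          _ = ((z / μ) ^ 4) ^ (4 * a + 1) := by ring
          _ = 1 := h1
      rw [div_pow] at h3
      exact (div_eq_one_iff_eq (pow_ne_zero _ hμ0)).1 h3
    have hμ4x : (μ ^ 4) ^ ((q : ℕ) : ℤ) = μ ^ 4 := by rw [← zpow_pow_comm, hμx]
    have hν : ν ^ 4 = μ ^ 4 ∧ ρ ^ 4 = μ ^ 4 := by
      by_cases hνx : ν ^ ((q : ℕ) : ℤ) = ν
      · rw [hνx, Multiset.cons_inj_right, Multiset.singleton_inj] at hmap2
        exact ⟨hfix ν hνR hνx, hfix ρ hρR hmap2⟩
      · have hνρ : ν ^ ((q : ℕ) : ℤ) = ρ := by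
          have h1 : ν ^ ((q : ℕ) : ℤ) ∈ (ν ::ₘ {ρ} : Multiset (AlgebraicClosure F)) := by
            rw [← hmap2]; exact Multiset.mem_cons_self _ _
          rw [Multiset.mem_cons, Multiset.mem_singleton] at h1
          exact h1.resolve_left hνx
        have hν4 : ν ^ 4 = μ ^ 4 := by
          rw [← hνρ, zpow_natCast, ha] at hp2
          have h2 := h8 ν hνR
          have h3 : ((ν / μ) ^ 4) ^ (2 * a + 1) * μ ^ 4 = 1 := by
            rw [← pow_mul, div_pow, div_mul_eq_mul_div, div_eq_one_iff_eq (pow_ne_zero _ hμ0)]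
            calc ν ^ (4 * (2 * a + 1)) * μ ^ 4 = (μ ^ 2 * (ν * ν ^ (8 * a + 3))) * μ ^ 2 := by ring
              _ = μ ^ 2 := by rw [hp2, one_mul]
              _ = μ ^ (2 * (4 * a + 1)) * μ ^ 2 := by rw [hμq, one_mul]
              _ = μ ^ (4 * (2 * a + 1)) := by ring
          have h4 : (ν / μ) ^ 4 * μ ^ 4 = 1 := by
            calc (ν / μ) ^ 4 * μ ^ 4 = (((ν / μ) ^ 4) ^ 2) ^ a * (ν / μ) ^ 4 * μ ^ 4 := by rw [h2, one_pow, one_mul]
              _ = ((ν / μ) ^ 4) ^ (2 * a + 1) * μ ^ 4 := by ring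
              _ = 1 := h3
          have h5 : (ν / μ) ^ 4 = 1 := by
            calc (ν / μ) ^ 4 = (((ν / μ) ^ 4) ^ 2) ^ (2 * a) * (ν / μ) ^ 4 * (μ ^ (2 * (4 * a + 1))) ^ 2 := by
                  rw [h2, hμq, one_pow, one_pow, one_mul, mul_one]
              _ = ((ν / μ) ^ 4 * μ ^ 4) ^ (4 * a + 1) := by ring
              _ = 1 := by rw [h4, one_pow]
          rw [div_pow] at h5
          exact (div_eq_one_iff_eq (pow_ne_zero _ hμ0)).1 h5
        refine ⟨hν4, ?_⟩
        rw [← hνρ, zpow_pow_comm, hν4, hμ4x]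
    refine key μ hμR hμ4x fun z hz => ?_
    rw [hT, Multiset.mem_add] at hz
    rcases hz with hz | hz
    · rw [Multiset.eq_of_mem_replicate hz]
    · simp only [Multiset.insert_eq_cons, Multiset.mem_cons, Multiset.mem_singleton] at hz
      rcases hz with rfl | rfl
      · exact hν.1
      · exact hν.2
  · -- `μ ∉ F`
    have h1 : R.count (μ ^ ((q : ℕ) : ℤ)) = R.count μ := by
      conv_lhs => rw [← hM.map]
      exact Multiset.count_map_eq_count' (fun z => z ^ ((q : ℕ) : ℤ)) R hM.inj μ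
    have h2 : Multiset.replicate 2 (μ ^ ((q : ℕ) : ℤ)) ≤ T := by
      rw [← Multiset.le_count_iff_replicate_le]
      have h3 := congrArg (Multiset.count (μ ^ ((q : ℕ) : ℤ))) hT
      rw [Multiset.count_add, Multiset.count_replicate, if_neg (Ne.symm hμx)] at h3
      omega
    have h3 : Multiset.replicate 2 (μ ^ ((q : ℕ) : ℤ)) = T :=
      Multiset.eq_of_le_of_card_le h2 (by rw [hTc, Multiset.card_replicate])
    have hp2 : μ ^ 2 * (μ ^ (8 * a + 3)) ^ 2 = 1 := by
      rw [hT, ← h3, Multiset.prod_add, Multiset.prod_replicate, Multiset.prod_replicate, zpow_natCast, ha] at hprod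
      exact hprod
    have h4 : (μ ^ 8) ^ (2 * a + 1) = 1 := by rw [← hp2]; ring
    have h5 : (μ ^ 8) ^ (2 * (4 * a + 1)) = 1 := by
      have := pow_AA_of_fix (e := true) (q := q) (by omega) (pow_ne_zero 8 hμ0) hμ8
      rw [AA_one] at this
      simp only [cond_true] at this
      rw [← this]; congr 1; omega
    have h6 : (μ ^ 8) ^ 2 = 1 := by
      calc (μ ^ 8) ^ 2 = (μ ^ 8) ^ 2 * (μ ^ 8) ^ (2 * (4 * a + 1)) := by rw [h5, mul_one]
        _ = ((μ ^ 8) ^ (2 * a + 1)) ^ 4 := by ring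
        _ = 1 := by rw [h4, one_pow]
    have h7 : μ ^ 8 = 1 := by
      calc μ ^ 8 = ((μ ^ 8) ^ 2) ^ a * μ ^ 8 := by rw [h6, one_pow, one_mul]
        _ = (μ ^ 8) ^ (2 * a + 1) := by ring
        _ = 1 := h4
    have h8 : (μ ^ 4) ^ ((q : ℕ) : ℤ) = μ ^ 4 := by
      rw [zpow_natCast, ha]
      calc (μ ^ 4) ^ (8 * a + 3) = (μ ^ 8) ^ (4 * a + 1) * μ ^ 4 := by ring
        _ = μ ^ 4 := by rw [h7, one_pow, one_mul]
    refine key μ hμR h8 fun z hz => ?_
    rw [hT, ← h3, Multiset.mem_add] at hz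
    rcases hz with hz | hz
    · rw [Multiset.eq_of_mem_replicate hz]
    · rw [Multiset.eq_of_mem_replicate hz, zpow_pow_comm, h8]

/-- **`r_3`.** -/
theorem dvd_of_r3 {r : ℕ} (hr : r.Prime) (hi : orderOf ((Fintype.card F : ℕ) : ZMod r) = 3) (g : L4 F)
    (hg : r ∣ orderOf g) :
    orderOf g * Nat.gcd 4 (Fintype.card F - 1) ∣ (Fintype.card F) ^ 3 - 1 := by
  have h1 : Lin (AlgebraicClosure F) (L4 F) true 4 (Fintype.card F) F := lin_psl rfl
  have h2 := Lin.dvd_pred h1 (by simp) (by norm_num) hr (by simpa [xv] using hi) g hg (orderOf_pos g).ne'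
  rw [AA_one] at h2
  simpa [AA] using h2

/-- **`r_4`.** -/
theorem dvd_of_r4 {r : ℕ} (hr : r.Prime) (hi : orderOf ((Fintype.card F : ℕ) : ZMod r) = 4) (g : L4 F)
    (hg : r ∣ orderOf g) :
    orderOf g * Nat.gcd 4 (Fintype.card F - 1) ∣ (Fintype.card F + 1) * ((Fintype.card F) ^ 2 + 1) := by
  have h1 : Lin (AlgebraicClosure F) (L4 F) true 4 (Fintype.card F) F := lin_psl rfl
  have h2 := Lin.dvd_top h1 (by simp) (by norm_num) hr (by simpa [xv] using hi) g hg (orderOf_pos g).ne'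
  rw [AA_one] at h2
  have h3 : AA true 4 (Fintype.card F) = (Fintype.card F - 1) * ((Fintype.card F + 1) * ((Fintype.card F) ^ 2 + 1)) := by
    have : 2 ≤ Fintype.card F := Fintype.one_lt_card
    obtain ⟨b, hb⟩ : ∃ b, Fintype.card F = b + 1 := ⟨Fintype.card F - 1, by omega⟩
    simp only [AA, Bool.true_or, if_true]
    rw [hb, Nat.add_sub_cancel]
    have : (b + 1) ^ 4 = b * ((b + 1 + 1) * ((b + 1) ^ 2 + 1)) + 1 := by ring
    omega
  rw [h3, cond_true, mul_left_comm] at h2
  refine Nat.dvd_of_mul_dvd_mul_left ?_ h2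
  have : 2 ≤ Fintype.card F := Fintype.one_lt_card
  omega

/-- the characteristic does not divide the order of an element with `r_3` or `r_4` -/
theorem not_p_of_r3 {p : ℕ} (hp : p.Prime) [CharP F p] {r : ℕ} (hr : r.Prime)
    (hi : orderOf ((Fintype.card F : ℕ) : ZMod r) = 3) (g : L4 F) (hg : r ∣ orderOf g) : ¬ p ∣ orderOf g := by
  intro h
  have h1 := (h.trans (dvd_mul_right _ _)).trans (dvd_of_r3 hr hi g hg)
  obtain ⟨a, ha, hF⟩ := isPow (F := F) hp
  have h2 : p ∣ (Fintype.card F) ^ 3 := by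
    rw [hF, ← pow_mul]
    exact dvd_pow_self p (by omega)
  have h3 : 1 ≤ (Fintype.card F) ^ 3 := Nat.one_le_pow _ _ Fintype.card_pos
  have h4 := (Nat.dvd_sub_iff_right h3 h2).1 h1
  exact hp.one_lt.ne' (Nat.dvd_one.1 h4)

theorem not_p_of_r4 {p : ℕ} (hp : p.Prime) [CharP F p] {r : ℕ} (hr : r.Prime)
    (hi : orderOf ((Fintype.card F : ℕ) : ZMod r) = 4) (g : L4 F) (hg : r ∣ orderOf g) : ¬ p ∣ orderOf g := by
  intro h
  have h1 := (h.trans (dvd_mul_right _ _)).trans (dvd_of_r4 hr hi g hg)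
  obtain ⟨a, ha, hF⟩ := isPow (F := F) hp
  have h2 : p ∣ Fintype.card F := by
    rw [hF]
    exact dvd_pow_self p (by omega)
  have h3 : (Fintype.card F + 1) * ((Fintype.card F) ^ 2 + 1) =
      Fintype.card F * ((Fintype.card F) ^ 2 + Fintype.card F + 1) + 1 := by ring
  rw [h3, Nat.dvd_add_right (h2.mul_right _)] at h1
  exact hp.one_lt.ne' (Nat.dvd_one.1 h1)

/-! ### existence -/

theorem exists_tor3 : ∃ x : L4 F, orderOf x = ((Fintype.card F) ^ 3 - 1) / Nat.gcd 4 (Fintype.card F - 1) := by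
  obtain ⟨x, hx⟩ := PslTorus.exists_big (F := F) (n := 4) (by norm_num)
  rw [Nat.card_eq_fintype_card] at hx
  set q := Fintype.card F
  have hq : 2 ≤ q := Fintype.one_lt_card
  have hd : Nat.gcd 4 (q - 1) ∣ q ^ 3 - 1 := (Nat.gcd_dvd_right _ _).trans (by
    have := Nat.sub_dvd_pow_sub_pow q 1 3
    rwa [one_pow] at this)
  have hd0 : 0 < Nat.gcd 4 (q - 1) := Nat.gcd_pos_of_pos_left _ (by norm_num)
  have h1 : 1 < q ^ 3 := Nat.one_lt_pow (by norm_num) (by omega)
  refine exists_order_of_dvd (g := x) ?_ (Nat.div_pos (Nat.le_of_dvd (by omega) hd) hd0).ne'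
  obtain ⟨t, ht⟩ := hd
  have h2 : q ^ 3 - 1 = Nat.gcd 4 (q - 1) * t := ht
  rw [show (4 : ℕ) - 1 = 3 from rfl, h2, mul_comm] at hx
  rw [h2, Nat.mul_div_cancel_left _ hd0]
  exact Nat.dvd_of_mul_dvd_mul_right hd0 hx

theorem exists_tor4 : ∃ x : L4 F,
    orderOf x = ((Fintype.card F + 1) * ((Fintype.card F) ^ 2 + 1)) / Nat.gcd 4 (Fintype.card F - 1) := by
  obtain ⟨x, hx⟩ := PslSpec.exists_singer (F := F) (n := 4) (by norm_num)
  rw [Nat.card_eq_fintype_card] at hx
  refine ⟨x, ?_⟩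
  rw [hx]
  congr 1
  have : 2 ≤ Fintype.card F := Fintype.one_lt_card
  obtain ⟨b, hb⟩ : ∃ b, Fintype.card F = b + 1 := ⟨Fintype.card F - 1, by omega⟩
  rw [hb, Nat.add_sub_cancel]
  have h1 : (b + 1) ^ 4 - 1 = ((b + 1 + 1) * ((b + 1) ^ 2 + 1)) * b := by
    have : (b + 1) ^ 4 = ((b + 1 + 1) * ((b + 1) ^ 2 + 1)) * b + 1 := by ring
    omega
  rw [h1, Nat.mul_div_cancel _ (by omega)]

theorem exists_r3 {r : ℕ} (hr : r.Prime) (hi : orderOf ((Fintype.card F : ℕ) : ZMod r) = 3) :
    ∃ x : L4 F, orderOf x = r := by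
  obtain ⟨x, hx⟩ := PslTorus.exists_big (F := F) (n := 4) (by norm_num)
  rw [Nat.card_eq_fintype_card] at hx
  have hq : 2 ≤ Fintype.card F := Fintype.one_lt_card
  refine exists_order_of_dvd (g := x) ?_ hr.pos.ne'
  have h1 : r ∣ Fintype.card F ^ 3 - 1 := by
    rw [← ZMod.natCast_eq_zero_iff, Nat.cast_sub (Nat.one_le_pow _ _ (by omega)), Nat.cast_pow, Nat.cast_one,
      sub_eq_zero, ← hi]
    exact pow_orderOf_eq_one _
  refine (Nat.Prime.dvd_mul hr).1 (h1.trans hx) |>.resolve_right fun h2 => ?_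
  have h3 := h2.trans (Nat.gcd_dvd_right _ _)
  rw [← ZMod.natCast_eq_zero_iff, Nat.cast_sub (by omega), Nat.cast_one, sub_eq_zero] at h3
  rw [h3, orderOf_one] at hi
  omega

theorem zmod_two_aux : ∀ z : ZMod 2, z ^ 4 = 1 → z ^ 2 = 1 := by decide

theorem exists_r4 {r : ℕ} (hr : r.Prime) (hi : orderOf ((Fintype.card F : ℕ) : ZMod r) = 4) :
    ∃ x : L4 F, orderOf x = r := by
  have hrf := Fact.mk hr
  obtain ⟨x, hx⟩ := exists_tor4 (F := F)
  have hq : 2 ≤ Fintype.card F := Fintype.one_lt_card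
  refine exists_order_of_dvd (g := x) ?_ hr.pos.ne'
  set z : ZMod r := ((Fintype.card F : ℕ) : ZMod r) with hz
  have h4 : z ^ 4 = 1 := by rw [← hi]; exact pow_orderOf_eq_one _
  have h2 : z ^ 2 ≠ 1 := fun h => by
    have := orderOf_dvd_of_pow_eq_one h
    rw [hi] at this
    norm_num at this
  have h5 : z ^ 2 + 1 = 0 := by
    have : (z ^ 2 - 1) * (z ^ 2 + 1) = 0 := by linear_combination h4
    exact (mul_eq_zero.1 this).resolve_left (sub_ne_zero.2 h2)
  have h6 : r ∣ (Fintype.card F) ^ 2 + 1 := by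
    rw [← ZMod.natCast_eq_zero_iff]
    push_cast
    exact h5
  have hr2 : r ≠ 2 := by
    rintro rfl
    apply h2
    exact zmod_two_aux z h4
  have hd : Nat.gcd 4 (Fintype.card F - 1) ∣ (Fintype.card F + 1) * ((Fintype.card F) ^ 2 + 1) := by
    have h7 : Nat.gcd 4 (Fintype.card F - 1) ∣ 4 := Nat.gcd_dvd_left _ _
    rcases Nat.even_or_odd (Fintype.card F) with he | ho
    · have h8 : Nat.Coprime 4 (Fintype.card F - 1) := by
        rw [show 4 = 2 ^ 2 by norm_num]
        refine Nat.Coprime.pow_left _ (Nat.coprime_two_left.2 ?_)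
        obtain ⟨b, hb⟩ := he
        exact ⟨b - 1, by omega⟩
      rw [h8]
      exact one_dvd _
    · refine h7.trans ?_
      obtain ⟨b, hb⟩ := ho
      rw [hb]
      exact ⟨(b + 1) * (2 * b ^ 2 + 2 * b + 1), by ring⟩
  obtain ⟨t, ht⟩ := hd
  have hd0 : 0 < Nat.gcd 4 (Fintype.card F - 1) := Nat.gcd_pos_of_pos_left _ (by norm_num)
  rw [hx, ht, Nat.mul_div_cancel_left _ hd0]
  have h7 : r ∣ Nat.gcd 4 (Fintype.card F - 1) * t := by rw [← ht]; exact h6.mul_left _
  refine (Nat.Prime.dvd_mul hr).1 h7 |>.resolve_left fun h8 => hr2 ?_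
  have h9 := h8.trans (Nat.gcd_dvd_left _ _)
  rw [show 4 = 2 ^ 2 by norm_num] at h9
  exact (Nat.prime_dvd_prime_iff_eq hr Nat.prime_two).1 (hr.dvd_of_dvd_pow h9)

end

end Cfsg.Agent.H363.L4
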