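import Cfsg.Agent.H363.L4.Orders

/-!
# No elements of order `3 (q ^ 2 - 1)_2` in `PSL_4(q)`, `q` a power of 3 (helper363)
-/

set_option autoImplicit false
set_option linter.unusedSectionVars false

namespace Cfsg.Agent.H363.L4

open Polynomial Function Cfsg.Agent.H403 NumTop

theorem eq_one_of_sq_odd {G : Type*} [Monoid G] {v : G} {o : ℕ} (ho : o % 2 = 1) (h1 : v ^ 2 = 1) (h2 : v ^ o = 1) :
    v = 1 := by
  obtain ⟨k, hk⟩ : ∃ k, o = 2 * k + 1 := ⟨o / 2, by omega⟩
  rw [hk, pow_succ, pow_mul, h1, one_pow, one_mul] at h2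
  exact h2

variable {F : Type*} [Field F] [Fintype F]

/-- **No elements of order `3 (q ^ 2 - 1)_2`.** -/
theorem not_three_mul [CharP F 3] {h o : ℕ} (ho : o % 2 = 1) (hh : 0 < h) (hQ : Fintype.card F ^ 2 - 1 = 2 * h * o)
    (g : L4 F) : ¬ 3 * (2 * h) ∣ orderOf g := by
  classical
  intro h24
  obtain ⟨x, hx⟩ := exists_order_of_dvd h24 (by omega)
  obtain ⟨M, hdet, hM, hg⟩ := exists_mat (AlgebraicClosure F) x
  obtain ⟨ζ, hζ⟩ := (hg (3 * (2 * h))).1 (by rw [← hx]; exact pow_orderOf_eq_one x)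
  obtain ⟨c, hc0, hc⟩ := exists_const Nat.prime_three hM (k := 2 * h) (b := 1)
    (by rw [pow_one, mul_comm]; exact hζ)
  have hcE : algebraMap F (AlgebraicClosure F) c ≠ 0 := by
    rw [Ne, map_eq_zero]; exact hc0
  have hcard := card_evs4 (E := AlgebraicClosure F) M
  have hodd : Fintype.card F % 2 = 1 := by
    obtain ⟨a, ha, hF⟩ := isPow (F := F) Nat.prime_three
    rw [hF, Nat.pow_mod]
    norm_num
  set R := evs (AlgebraicClosure F) M with hR
  set q := Fintype.card F with hq
  have hq2 : 2 ≤ q := Fintype.one_lt_card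
  obtain ⟨a, ha⟩ : ∃ a, q = 2 * a + 1 := ⟨q / 2, by omega⟩
  have hho : h * o = 2 * a * (a + 1) := by
    have h1 : (2 * a + 1) ^ 2 = 2 * (2 * a * (a + 1)) + 1 := by ring
    rw [ha, h1, Nat.add_sub_cancel] at hQ
    have h2 : 2 * (2 * a * (a + 1)) = 2 * (h * o) := by rw [hQ]; ring
    omega
  -- it suffices that the `h`-th powers are equal, and fixed
  have key : ∀ (y : AlgebraicClosure F), y ∈ R → (y ^ h) ^ ((q : ℕ) : ℤ) = y ^ h → (∀ z ∈ R, z ^ h = y ^ h) → False := by
    intro y hy hyx hall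
    have hy0 := hM.ne_zero hy
    obtain ⟨c', hc'⟩ := mem_range_of_fix (F := F) (e := true) (q := q) (by simp [hq]) (pow_ne_zero h hy0) hyx
    by_cases hmul : ∀ y ∈ R, R.count y ≤ 3
    · have h1 := orderOf_dvd_of_const (E := AlgebraicClosure F) Nat.prime_three hg (a := 1) (k := h) (c := c') hh
        (fun z hz => by rw [hall z hz, hc']) (by simpa using hmul)
      rw [hx, pow_one] at h1
      have := Nat.le_of_dvd (by omega) h1
      omega
    · push Not at hmul
      obtain ⟨u, hu, hu2⟩ := hmul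
      have hux := fix_of_count hM hcard (y := u) (by omega)
      obtain ⟨c'', hc''⟩ := mem_range_of_fix (F := F) (e := true) (q := q) (by simp [hq]) (hM.ne_zero hu) hux
      have h1 := orderOf_dvd_of_const (E := AlgebraicClosure F) Nat.prime_three hg (k := 1) (a := 2) (c := c'') (by norm_num) (fun v hv => by
        rw [pow_one, hc'', eq_of_count_four hcard hu2 hv]) fun y _ => by
        have := Multiset.count_le_card y R
        rw [← hR]
        norm_num
        omega
      rw [hx] at h1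
      have h4 : 2 ∣ 1 * 3 ^ 2 := (Dvd.intro (3 * h) (by ring)).trans h1
      norm_num at h4
  -- a double eigenvalue
  have hdup : ¬ R.Nodup := by
    intro hnd
    have h1 := orderOf_dvd_of_pow_eq_one ((hg (2 * h)).2 ⟨c, pow_eq_smul_of_nodup (AlgebraicClosure F) (by omega) hnd hc⟩)
    rw [hx] at h1
    have := Nat.le_of_dvd (by omega) h1
    omega
  rw [Multiset.nodup_iff_count_le_one] at hdup
  push Not at hdup
  obtain ⟨μ, hμ⟩ := hdup
  have hμR : μ ∈ R := Multiset.count_pos.1 (by omega)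
  have hμ0 := hM.ne_zero hμR
  have hprod : R.prod = 1 := by rw [hR, prod_evs, hdet, map_one]
  have hμ8 : (μ ^ (2 * h)) ^ ((q : ℕ) : ℤ) = μ ^ (2 * h) := by
    rw [← zpow_pow_comm, hc _ (hM.mem hμR), hc _ hμR]
  obtain ⟨T, hT⟩ := Multiset.le_iff_exists_add.1 (Multiset.le_count_iff_replicate_le.1 (show 2 ≤ R.count μ by omega))
  have hTc : Multiset.card T = 2 := by
    have := congrArg Multiset.card hT
    rw [Multiset.card_add, Multiset.card_replicate, hcard] at this
    omega
  by_cases hμx : μ ^ ((q : ℕ) : ℤ) = μ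
  · -- `μ ∈ F`
    obtain ⟨ν, ρ, hνρ⟩ := Multiset.card_eq_two.1 hTc
    subst hνρ
    have hνR : ν ∈ R := by rw [hT]; simp
    have hρR : ρ ∈ R := by rw [hT]; simp
    have hmap := hM.map
    rw [hT, Multiset.map_add, Multiset.map_replicate, hμx] at hmap
    have hmap2 := add_left_cancel hmap
    simp only [Multiset.insert_eq_cons, Multiset.map_cons, Multiset.map_singleton] at hmap2
    have hp2 : μ ^ 2 * (ν * ρ) = 1 := by
      rw [hT, Multiset.prod_add, Multiset.prod_replicate] at hprod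
      simpa using hprod
    have hμq : μ ^ (2 * a) = 1 := by
      have := pow_AA_of_fix (e := true) (q := q) (by omega) hμ0 hμx
      rw [AA_one] at this
      simp only [cond_true] at this
      rw [← this]; congr 1; omega
    have h8 : ∀ z ∈ R, ((z / μ) ^ h) ^ 2 = 1 := fun z hz => by
      rw [← pow_mul, mul_comm h, div_pow, hc z hz, hc μ hμR, div_self hcE]
    have hfin : ∀ z ∈ R, ((z / μ) ^ h) ^ o = 1 → z ^ h = μ ^ h := fun z hz h1 => by
      have h3 := eq_one_of_sq_odd ho (h8 z hz) h1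
      rw [div_pow] at h3
      exact (div_eq_one_iff_eq (pow_ne_zero _ hμ0)).1 h3
    have hfix : ∀ z ∈ R, z ^ ((q : ℕ) : ℤ) = z → z ^ h = μ ^ h := by
      intro z hz hzx
      have hz0 := hM.ne_zero hz
      have hzq : z ^ (2 * a) = 1 := by
        have := pow_AA_of_fix (e := true) (q := q) (by omega) hz0 hzx
        rw [AA_one] at this
        simp only [cond_true] at this
        rw [← this]; congr 1; omega
      apply hfin z hz
      rw [← pow_mul, hho, pow_mul, div_pow, hzq, hμq, div_one, one_pow]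
    have hμ4x : (μ ^ h) ^ ((q : ℕ) : ℤ) = μ ^ h := by rw [← zpow_pow_comm, hμx]
    have hν : ν ^ h = μ ^ h ∧ ρ ^ h = μ ^ h := by
      by_cases hνx : ν ^ ((q : ℕ) : ℤ) = ν
      · rw [hνx, Multiset.cons_inj_right, Multiset.singleton_inj] at hmap2
        exact ⟨hfix ν hνR hνx, hfix ρ hρR hmap2⟩
      · have hνρ : ν ^ ((q : ℕ) : ℤ) = ρ := by
          have h1 : ν ^ ((q : ℕ) : ℤ) ∈ (ν ::ₘ {ρ} : Multiset (AlgebraicClosure F)) := by
            rw [← hmap2]; exact Multiset.mem_cons_self _ _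
          rw [Multiset.mem_cons, Multiset.mem_singleton] at h1
          exact h1.resolve_left hνx
        have hν4 : ν ^ h = μ ^ h := by
          rw [← hνρ, zpow_natCast, ha] at hp2
          apply hfin ν hνR
          rw [← pow_mul, hho]
          have h3 : (ν / μ) ^ (2 * (a + 1)) * μ ^ 4 = 1 := by
            rw [div_pow, div_mul_eq_mul_div, div_eq_one_iff_eq (pow_ne_zero _ hμ0)]
            calc ν ^ (2 * (a + 1)) * μ ^ 4 = (μ ^ 2 * (ν * ν ^ (2 * a + 1))) * μ ^ 2 := by ring
              _ = μ ^ 2 := by rw [hp2, one_mul]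
              _ = μ ^ (2 * a) * μ ^ 2 := by rw [hμq, one_mul]
              _ = μ ^ (2 * (a + 1)) := by ring
          calc (ν / μ) ^ (2 * a * (a + 1)) = ((ν / μ) ^ (2 * (a + 1))) ^ a * (μ ^ (2 * a)) ^ 2 := by
                rw [hμq, one_pow, mul_one, ← pow_mul]; congr 1; ring
            _ = ((ν / μ) ^ (2 * (a + 1)) * μ ^ 4) ^ a := by ring
            _ = 1 := by rw [h3, one_pow]
        refine ⟨hν4, ?_⟩
        rw [← hνρ, zpow_pow_comm, hν4, hμ4x]
    refine key μ hμR hμ4x fun z hz => ?_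
    rw [hT, Multiset.mem_add] at hz
    rcases hz with hz | hz
    · rw [Multiset.eq_of_mem_replicate hz]
    · simp only [Multiset.insert_eq_cons, Multiset.mem_cons, Multiset.mem_singleton] at hz
      rcases hz with rfl | rfl
      · exact hν.1
      · exact hν.2
  · -- `μ ∉ F`
    have h1 : R.count (μ ^ ((q : ℕ) : ℤ)) = R.count μ := by
      conv_lhs => rw [← hM.map]
      exact Multiset.count_map_eq_count' (fun z => z ^ ((q : ℕ) : ℤ)) R hM.inj μ
    have h2 : Multiset.replicate 2 (μ ^ ((q : ℕ) : ℤ)) ≤ T := by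
      rw [← Multiset.le_count_iff_replicate_le]
      have h3 := congrArg (Multiset.count (μ ^ ((q : ℕ) : ℤ))) hT
      rw [Multiset.count_add, Multiset.count_replicate, if_neg (Ne.symm hμx)] at h3
      omega
    have h3 : Multiset.replicate 2 (μ ^ ((q : ℕ) : ℤ)) = T :=
      Multiset.eq_of_le_of_card_le h2 (by rw [hTc, Multiset.card_replicate])
    have hp2 : μ ^ 2 * (μ ^ (2 * a + 1)) ^ 2 = 1 := by
      rw [hT, ← h3, Multiset.prod_add, Multiset.prod_replicate, Multiset.prod_replicate, zpow_natCast, ha] at hprod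
      exact hprod
    have h5 : (μ ^ (2 * h)) ^ (2 * a) = 1 := by
      have := pow_AA_of_fix (e := true) (q := q) (by omega) (pow_ne_zero (2 * h) hμ0) hμ8
      rw [AA_one] at this
      simp only [cond_true] at this
      rw [← this]; congr 1; omega
    have h6 : (μ ^ h) ^ (2 * a) = 1 := by
      apply eq_one_of_sq_odd ho
      · rw [← h5]; ring
      · calc ((μ ^ h) ^ (2 * a)) ^ o = μ ^ (h * o * (2 * a)) := by rw [← pow_mul, ← pow_mul]; congr 1; ring
          _ = (μ ^ 2 * (μ ^ (2 * a + 1)) ^ 2) ^ a ^ 2 := by rw [hho]; ring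
          _ = 1 := by rw [hp2, one_pow]
    have h8 : (μ ^ h) ^ ((q : ℕ) : ℤ) = μ ^ h := by
      rw [zpow_natCast, ha, pow_succ, h6, one_mul]
    refine key μ hμR h8 fun z hz => ?_
    rw [hT, ← h3, Multiset.mem_add] at hz
    rcases hz with hz | hz
    · rw [Multiset.eq_of_mem_replicate hz]
    · rw [Multiset.eq_of_mem_replicate hz, zpow_pow_comm, h8]

end Cfsg.Agent.H363.L4
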