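import Cfsg.Agent.H199.PslAut
import Cfsg.Agent.H202.Descent

/-!
# Overgroups of `Inn(PSL_n(F))` in `Aut(PSL_n(F))`: moving elements within their cosets (helper363)

* `Bd n F Y` : `Y` contains the inner automorphisms, and the orders of its elements are orders of elements of `PSL_n(F)`;
* `Bd.exists_psi`, `Bd.exists_phi`, `Bd.exists_iot` : a coset of `Inn` in `Y` gives orders of elements of all the cosets
  which are conjugate under `PGL_n(F)`; the condition is one on determinants;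
* `sq_phi`, `sq_iot`, `even_of_phi`, `even_of_iot` : squares of (graph-)field automorphisms.
-/

set_option autoImplicit false
set_option linter.unusedSectionVars false

namespace Cfsg.Agent.H363.L4.Out

open Matrix
open Cfsg.Agent.H199.PslAut
open Cfsg.Agent.ClassicalGeometry.AutPSL.Root
open Cfsg.Agent.ClassicalGeometry.AutPSL.Auto

variable {F : Type*} [Field F] {n : ℕ}

/-- `Y` contains the inner automorphisms, and has no new orders -/
structure Bd (n : ℕ) (F : Type*) [Field F] (Y : Subgroup (MulAut (Matrix.ProjectiveSpecialLinearGroup (Fin n) F))) :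
    Prop where
  inn : ∀ a, MulAut.conj a ∈ Y
  ord : ∀ y ∈ Y, ∃ g : Matrix.ProjectiveSpecialLinearGroup (Fin n) F, orderOf g = orderOf y

variable {Y : Subgroup (MulAut (Matrix.ProjectiveSpecialLinearGroup (Fin n) F))}

theorem det_scal (c : Fˣ) : Matrix.GeneralLinearGroup.det (scal n F c) = c ^ n := by
  apply Units.ext
  change (Matrix.scalar (Fin n) (c : F)).det = _
  rw [Matrix.scalar_apply, Matrix.det_diagonal]
  simp

/-- elements with a determinant in `(F^*)^n` are inner -/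
theorem psi_inner {u : GL (Fin n) F} {c : Fˣ} (h : Matrix.GeneralLinearGroup.det u = c ^ n) :
    ∃ a, Psi n F u = MulAut.conj a := by
  have h1 : Matrix.GeneralLinearGroup.det ((scal n F c)⁻¹ * u) = 1 := by
    rw [map_mul, map_inv, det_scal, h, inv_mul_cancel]
  let A : Matrix.SpecialLinearGroup (Fin n) F := ⟨_, congrArg Units.val h1⟩
  refine ⟨pr A, ?_⟩
  rw [← Psi_coe]
  have h3 : (A : GL (Fin n) F) = (scal n F c)⁻¹ * u := by
    apply Units.ext
    rfl
  rw [h3, map_mul, map_inv, Psi_scal, inv_one, one_mul]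

theorem Bd.mem_of_det (hY : Bd n F Y) {u : GL (Fin n) F} {c : Fˣ} (h : Matrix.GeneralLinearGroup.det u = c ^ n) :
    Psi n F u ∈ Y := by
  obtain ⟨a, ha⟩ := psi_inner h
  rw [ha]
  exact hY.inn a

theorem Bd.move (hY : Bd n F Y) {g g' : GL (Fin n) F} {β : MulAut (Matrix.ProjectiveSpecialLinearGroup (Fin n) F)}
    (h : Psi n F g * β ∈ Y) {a : Fˣ}
    (hdet : Matrix.GeneralLinearGroup.det g' = Matrix.GeneralLinearGroup.det g * a ^ n) : Psi n F g' * β ∈ Y := by
  have h1 : Psi n F (g' * g⁻¹) ∈ Y := by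
    apply hY.mem_of_det (c := a)
    rw [map_mul, map_inv, hdet, mul_comm (Matrix.GeneralLinearGroup.det g), mul_inv_cancel_right]
  have h2 := Y.mul_mem h1 h
  rwa [← mul_assoc, ← map_mul, inv_mul_cancel_right] at h2

/-- a matrix with a given determinant -/
theorem exists_det (hn : 0 < n) (c : Fˣ) : ∃ h : GL (Fin n) F, Matrix.GeneralLinearGroup.det h = c := by
  let i0 : Fin n := ⟨0, hn⟩
  let d : Fin n → Fˣ := Pi.mulSingle i0 c
  let f : (Fin n → Fˣ) → Matrix (Fin n) (Fin n) F := fun d => diagonal fun i => (d i : F)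
  have hf : ∀ d : Fin n → Fˣ, f d * f d⁻¹ = 1 := fun d => by
    change diagonal _ * diagonal _ = 1
    rw [diagonal_mul_diagonal, ← diagonal_one]
    congr 1
    funext i
    simp
  refine ⟨⟨f d, f d⁻¹, hf d, by simpa using hf d⁻¹⟩, ?_⟩
  apply Units.ext
  change (diagonal fun i => (d i : F)).det = _
  rw [det_diagonal, ← Units.coe_prod, Fintype.prod_pi_mulSingle']
  
theorem det_mapGL (σ : F ≃+* F) (g : GL (Fin n) F) :
    Matrix.GeneralLinearGroup.det (mapGL σ g) = Units.map (σ : F →* F) (Matrix.GeneralLinearGroup.det g) := by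
  apply Units.ext
  change ((g : Matrix (Fin n) (Fin n) F).map σ).det = σ ((g : Matrix (Fin n) (Fin n) F).det)
  exact (RingHom.map_det (σ : F →+* F) _).symm

theorem det_itGL (g : GL (Fin n) F) :
    Matrix.GeneralLinearGroup.det (itGL g) = (Matrix.GeneralLinearGroup.det g)⁻¹ := by
  rw [← map_inv]
  apply Units.ext
  change (((g⁻¹ : GL (Fin n) F) : Matrix (Fin n) (Fin n) F)ᵀ).det = ((g⁻¹ : GL (Fin n) F) : Matrix (Fin n) (Fin n) F).det
  exact det_transpose _

theorem orderOf_conj' {G : Type*} [Group G] (a z : G) : orderOf (a * z * a⁻¹) = orderOf z := by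
  rw [← MulAut.conj_apply]
  exact (MulAut.conj a).orderOf_eq z

theorem Bd.exists_psi (hY : Bd n F Y) {g g' : GL (Fin n) F} (h : Psi n F g ∈ Y) {a : Fˣ}
    (hdet : Matrix.GeneralLinearGroup.det g' = Matrix.GeneralLinearGroup.det g * a ^ n) :
    ∃ x : Matrix.ProjectiveSpecialLinearGroup (Fin n) F, orderOf x = orderOf (Psi n F g') := by
  refine hY.ord _ ?_
  have := hY.move (β := 1) (by rwa [mul_one]) hdet
  rwa [mul_one] at this

/-- **Cosets of field automorphisms.** -/
theorem Bd.exists_phi (hn : 0 < n) (hY : Bd n F Y) {g g' : GL (Fin n) F} {σ : F ≃+* F} (h : Psi n F g * phi n F σ ∈ Y)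
    {a c : Fˣ} (hdet : Matrix.GeneralLinearGroup.det g' * c =
      Matrix.GeneralLinearGroup.det g * a ^ n * Units.map (σ : F →* F) c) :
    ∃ x : Matrix.ProjectiveSpecialLinearGroup (Fin n) F, orderOf x = orderOf (Psi n F g' * phi n F σ) := by
  obtain ⟨k, hk⟩ := exists_det (F := F) hn c
  have h1 : Psi n F k * (Psi n F g' * phi n F σ) * (Psi n F k)⁻¹ =
      Psi n F (k * g' * mapGL σ k⁻¹) * phi n F σ := by
    rw [← map_inv, mul_assoc, mul_assoc, phi_mul_Psi, map_mul, map_mul]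
    group
  rw [← orderOf_conj' (Psi n F k), h1]
  refine hY.ord _ (hY.move h (a := a) ?_)
  rw [map_mul, map_mul, map_inv, map_inv, det_mapGL, hk, mul_comm c, hdet, mul_inv_cancel_right]

/-- **Cosets of graph-field automorphisms.** -/
theorem Bd.exists_iot (hn : 0 < n) (hY : Bd n F Y) {g g' : GL (Fin n) F} {σ : F ≃+* F}
    (h : Psi n F g * phi n F σ * iot n F ∈ Y) {a c : Fˣ}
    (hdet : Matrix.GeneralLinearGroup.det g' * c * Units.map (σ : F →* F) c =
      Matrix.GeneralLinearGroup.det g * a ^ n) :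
    ∃ x : Matrix.ProjectiveSpecialLinearGroup (Fin n) F, orderOf x = orderOf (Psi n F g' * phi n F σ * iot n F) := by
  obtain ⟨k, hk⟩ := exists_det (F := F) hn c
  have h1 : Psi n F k * (Psi n F g' * phi n F σ * iot n F) * (Psi n F k)⁻¹ =
      Psi n F (k * g' * mapGL σ (itGL k⁻¹)) * (phi n F σ * iot n F) := by
    rw [← map_inv]
    calc Psi n F k * (Psi n F g' * phi n F σ * iot n F) * Psi n F k⁻¹
        = Psi n F k * Psi n F g' * phi n F σ * (iot n F * Psi n F k⁻¹) := by group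
      _ = Psi n F k * Psi n F g' * (phi n F σ * Psi n F (itGL k⁻¹)) * iot n F := by rw [iot_mul_Psi]; group
      _ = _ := by rw [phi_mul_Psi, map_mul, map_mul]; group
  rw [← orderOf_conj' (Psi n F k), h1]
  refine hY.ord _ (hY.move (g := g) (a := a) (by rwa [← mul_assoc]) ?_)
  rw [map_mul, map_mul, det_mapGL, det_itGL, map_inv, map_inv, map_inv, inv_inv, hk, mul_comm c, hdet]

/-! ### squares -/

theorem sq_phi {σ : F ≃+* F} (hσ : σ * σ = 1) (g : GL (Fin n) F) :
    (Psi n F g * phi n F σ) ^ 2 = Psi n F (g * mapGL σ g) := by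
  rw [sq, mul_assoc, ← mul_assoc (phi n F σ), phi_mul_Psi, mul_assoc (Psi n F (mapGL σ g)), ← map_mul (phi n F), hσ,
    map_one, mul_one, ← map_mul]

theorem sq_iot {σ : F ≃+* F} (hσ : σ * σ = 1) (g : GL (Fin n) F) :
    (Psi n F g * phi n F σ * iot n F) ^ 2 = Psi n F (g * mapGL σ (itGL g)) := by
  calc (Psi n F g * phi n F σ * iot n F) ^ 2
      = Psi n F g * phi n F σ * (iot n F * Psi n F g) * phi n F σ * iot n F := by rw [sq]; group
    _ = Psi n F g * (phi n F σ * Psi n F (itGL g)) * (iot n F * phi n F σ) * iot n F := by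
      rw [iot_mul_Psi]; group
    _ = Psi n F g * Psi n F (mapGL σ (itGL g)) * (phi n F σ * phi n F σ) * (iot n F * iot n F) := by
      rw [phi_mul_Psi, iot_mul_phi]; group
    _ = Psi n F (g * mapGL σ (itGL g)) := by
      rw [← map_mul (phi n F), hσ, map_one, iot_mul_iot, mul_one, mul_one, ← map_mul]

theorem even_of_phi (hn : 2 ≤ n) {g : GL (Fin n) F} {σ : F ≃+* F} (hσ : σ * σ = 1) (hσ1 : σ ≠ 1) {m : ℕ}
    (h : (Psi n F g * phi n F σ) ^ m = 1) : Even m := by
  by_contra hm
  obtain ⟨k, hk⟩ := Nat.not_even_iff_odd.1 hm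
  rw [hk, pow_succ, pow_mul, sq_phi hσ, ← map_pow, ← mul_assoc, ← map_mul] at h
  have h1 := Psi_phi_eq hn (τ := 1) (by rw [h, map_one])
  exact hσ1 h1.2

theorem even_of_iot (hn : 3 ≤ n) {g : GL (Fin n) F} {σ : F ≃+* F} (hσ : σ * σ = 1) {m : ℕ}
    (h : (Psi n F g * phi n F σ * iot n F) ^ m = 1) : Even m := by
  by_contra hm
  obtain ⟨k, hk⟩ := Nat.not_even_iff_odd.1 hm
  rw [hk, pow_succ, pow_mul, sq_iot hσ, ← map_pow, ← mul_assoc, ← mul_assoc, ← map_mul] at h
  exact not_graph' hn (τ := 1) (by rw [h, map_one])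

theorem orderOf_of_sq {G : Type*} [Group G] {z : G} (hz : ∀ m : ℕ, z ^ m = 1 → Even m) :
    orderOf z = 2 * orderOf (z ^ 2) := by
  apply Nat.dvd_antisymm
  · apply orderOf_dvd_of_pow_eq_one
    rw [pow_mul, pow_orderOf_eq_one]
  · obtain ⟨k, hk⟩ := hz _ (pow_orderOf_eq_one z)
    have h1 : (z ^ 2) ^ k = 1 := by rw [← pow_mul, two_mul, ← hk, pow_orderOf_eq_one]
    have h2 := orderOf_dvd_of_pow_eq_one h1
    rw [hk, ← two_mul]
    exact Nat.mul_dvd_mul_left 2 h2

/-- orders of elements of `PGL` -/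
theorem psi_pow_eq_one_iff (hn : 2 ≤ n) {g : GL (Fin n) F} {m : ℕ} :
    Psi n F g ^ m = 1 ↔ ∃ c : F, (g : Matrix (Fin n) (Fin n) F) ^ m = c • 1 := by
  rw [← map_pow, Psi_eq_one_iff hn]
  constructor
  · rintro ⟨u, hu⟩
    refine ⟨(u : F), ?_⟩
    rw [← Units.val_pow_eq_pow_val, hu, coe_scal, Matrix.scalar_apply, smul_one_eq_diagonal]
  · rintro ⟨c, hc⟩
    have hc0 : c ≠ 0 := by
      rintro rfl
      have h1 : IsUnit ((g : Matrix (Fin n) (Fin n) F) ^ m) := g.isUnit.pow m
      rw [hc, zero_smul] at h1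
      have : Nonempty (Fin n) := ⟨⟨0, by omega⟩⟩
      exact not_isUnit_zero h1
    refine ⟨Units.mk0 c hc0, ?_⟩
    apply Units.ext
    rw [Units.val_pow_eq_pow_val, hc, coe_scal, Matrix.scalar_apply, smul_one_eq_diagonal, Units.val_mk0]

end Cfsg.Agent.H363.L4.Out
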