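import Cfsg.Agent.H363.L4.OutC

/-!
# Overgroups of `Inn(PSL_4(q))`, `q` a power of 3: involutory field automorphisms (helper363)
-/

set_option autoImplicit false
set_option linter.unusedSectionVars false

namespace Cfsg.Agent.H363.L4.Out

open Matrix
open Cfsg.Agent.H199.PslAut
open Cfsg.Agent.H363.L4 (L4 dvd_of_r3 dvd_of_r4 isPow eq_nine)

section

variable {F : Type*} [Field F] [Fintype F] {Y : Subgroup (MulAut (L4 F))}

theorem no_18 [CharP F 3] (x : L4 F) (hx : orderOf x = 18) : False := by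
  have := eq_nine x (by rw [hx]; norm_num)
  omega

/-- `3 ^ k` modulo 8 -/
theorem three_pow_mod (k : ℕ) : 3 ^ k % 8 = 1 ∨ 3 ^ k % 8 = 3 := by
  induction k with
  | zero => left; rfl
  | succ k ih => rw [pow_succ]; omega

theorem exists_q0 [CharP F 3] {q₀ : ℕ} (hq : Fintype.card F = q₀ ^ 2) : q₀ % 8 = 1 ∨ q₀ % 8 = 3 := by
  obtain ⟨a, ha, hF⟩ := isPow (F := F) Nat.prime_three
  have h1 : q₀ ∣ 3 ^ a := by rw [← hF, hq]; exact dvd_pow_self _ (by norm_num)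
  obtain ⟨k, -, rfl⟩ := (Nat.dvd_prime_pow Nat.prime_three).1 h1
  exact three_pow_mod k

/-- the data of a quadratic subfield -/
theorem exists_inv {σ : F ≃+* F} (hσ : σ * σ = 1) (hσ1 : σ ≠ 1) :
    ∃ q₀ : ℕ, 2 ≤ q₀ ∧ Fintype.card F = q₀ ^ 2 ∧ ∀ x, σ x = x ^ q₀ := by
  obtain ⟨Q, h1, h2, h3⟩ := exists_sq_frob hσ hσ1
  exact ⟨Q, h1, by rw [← Nat.card_eq_fintype_card, h2], h3⟩

/-- the order of `z = (ζ ^ i) θ` -/
theorem orderOf_phi_T {K : Type*} [Field K] [Algebra F K] (b : Module.Basis (Fin 3) F K) {σ : F ≃+* F} {θ : K ≃+* K}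
    (hσ : σ * σ = 1) (hσ1 : σ ≠ 1)
    (hθ : ∀ a, θ (algebraMap F K a) = algebraMap F K (σ a)) (hb : ∀ i, θ (b i) = b i) (x : Kˣ) :
    orderOf (Psi 4 F (T b x) * phi 4 F σ) = 2 * orderOf (x * Units.map (θ : K →* K) x) := by
  rw [orderOf_of_sq fun m => even_of_phi (by norm_num) hσ hσ1, sq_phi hσ, mapGL_T b hθ hb, ← map_mul (T b),
    orderOf_psi_T]

/-- arithmetic of `2 (Q - 1) / gcd` -/
theorem arith_phi {Q i d N : ℕ} (hQ : 2 ≤ Q) (hi : 1 ≤ i) (hid : i < d) (hd : d = 2 ∨ d = 4)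
    (hN : N * Nat.gcd (Q - 1) i = Q - 1) (hQd : d = 2 → ¬ 8 ∣ Q + 1) (hQd4 : d = 4 → Q % 4 = 1)
    (h : 2 * N * 4 ∣ Q ^ 2 - 1) (hN0 : 0 < N) : False := by
  have h1 : Q ^ 2 - 1 = N * (Nat.gcd (Q - 1) i * (Q + 1)) := by
    rw [← mul_assoc, hN]
    obtain ⟨a, rfl⟩ : ∃ a, Q = a + 1 := ⟨Q - 1, by omega⟩
    rw [Nat.add_sub_cancel]
    have : (a + 1) ^ 2 = a * (a + 1 + 1) + 1 := by ring
    omega
  rw [h1, show 2 * N * 4 = N * 8 by ring] at h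
  have h2 := Nat.dvd_of_mul_dvd_mul_left hN0 h
  have hg : Nat.gcd (Q - 1) i ≤ i := Nat.le_of_dvd hi (Nat.gcd_dvd_right _ _)
  have hg0 : 0 < Nat.gcd (Q - 1) i := Nat.gcd_pos_of_pos_right _ hi
  rcases hd with hd | hd
  · have h3 : Nat.gcd (Q - 1) i = 1 := by omega
    rw [h3, one_mul] at h2
    exact hQd hd h2
  · have h4 := hQd4 hd
    have h5 : Nat.gcd (Q - 1) i = 1 ∨ Nat.gcd (Q - 1) i = 2 ∨ Nat.gcd (Q - 1) i = 3 := by omega
    rcases h5 with h5 | h5 | h5 <;> rw [h5] at h2 <;> omega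

/-- orders modulo `r` in the quadratic extension -/
theorem ord_sq {r q₀ n : ℕ} (h : orderOf ((q₀ : ℕ) : ZMod r) = n) (hn : Nat.Coprime n 2) :
    orderOf (((q₀ ^ 2 : ℕ)) : ZMod r) = n := by
  rw [Nat.cast_pow, orderOf_pow' _ (by norm_num), h, hn, Nat.div_one]

theorem theta_unit {K : Type*} [Field K] {θ : K ≃+* K} {Q : ℕ} (hθ : ∀ x, θ x = x ^ Q) (x : Kˣ) :
    Units.map (θ : K →* K) x = x ^ Q := by
  apply Units.ext
  exact hθ _

theorem gcd_four_sq {q₀ : ℕ} (h : q₀ % 8 = 1 ∨ q₀ % 8 = 3) : Nat.gcd 4 (q₀ ^ 2 - 1) = 4 := by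
  apply Nat.gcd_eq_left
  have h1 : q₀ ^ 2 % 4 = 1 := by
    rw [Nat.pow_mod]
    have : q₀ % 4 = 1 ∨ q₀ % 4 = 3 := by omega
    rcases this with h | h <;> rw [h]
  omega

theorem cube_mod {q₀ : ℕ} (h : q₀ % 8 = 1 ∨ q₀ % 8 = 3) : q₀ ^ 3 % 8 = q₀ % 8 := by
  rw [Nat.pow_mod]
  rcases h with h | h <;> rw [h]

/-- **Field automorphisms of order two.** -/
theorem Bd.no_phi_two [CharP F 3] (hY : Bd 4 F Y) {g : GL (Fin 4) F} {σ : F ≃+* F} (hσ : σ * σ = 1) (hσ1 : σ ≠ 1)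
    (hg : Psi 4 F g * phi 4 F σ ∈ Y) : False := by
  obtain ⟨q₀, hq₀, hF, hσq⟩ := exists_inv hσ hσ1
  obtain ⟨K, _, _, _, ζ, hfr, hcK, hζ, hoζ⟩ := exists_ext F
  obtain ⟨θ, hθq, hθ2, hθ⟩ := exists_theta hcK (by rw [Nat.card_eq_fintype_card, hF]) hσq
  obtain ⟨b, hb⟩ := exists_basis_fixed hfr (orderOf_two hσ hσ1) hθ2 hθ
  have hq8 := exists_q0 (F := F) hF
  set ρ := Units.map (Algebra.norm F (S := K)) ζ with hρ
  obtain ⟨j, hj⟩ := exists_rho (F := F) hζ (Matrix.GeneralLinearGroup.det g)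
  rw [← hρ] at hj
  set d := Nat.gcd 4 (q₀ - 1) with hd
  have hd0 : 0 < d := Nat.gcd_pos_of_pos_left _ (by norm_num)
  have hdvd : (Int.gcd 4 ((q₀ - 1 : ℕ) : ℤ) : ℤ) ∣ ((j % d : ℕ) : ℤ) - (j : ℤ) := by
    have h1 : Int.gcd 4 ((q₀ - 1 : ℕ) : ℤ) = d := rfl
    rw [h1]
    refine ⟨-((j / d : ℕ) : ℤ), ?_⟩
    have := Nat.mod_add_div j d
    have h2 : (j : ℤ) = ((j % d : ℕ) : ℤ) + (d : ℤ) * ((j / d : ℕ) : ℤ) := by exact_mod_cast this.symm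
    linear_combination -h2
  obtain ⟨a, c, hac⟩ := exists_zpow ρ ((q₀ - 1 : ℕ) : ℤ) _ _ hdvd
  rw [_root_.zpow_natCast, _root_.zpow_natCast, _root_.zpow_natCast, ← hj] at hac
  have hσc : Units.map (σ : F →* F) c = c ^ (q₀ - 1) * c := by
    apply Units.ext
    rw [← pow_succ, Nat.sub_add_cancel (by omega)]
    exact hσq _
  -- the move
  have key : ∀ g' : GL (Fin 4) F, Matrix.GeneralLinearGroup.det g' = ρ ^ (j % d) →
      ∃ x : L4 F, orderOf x = orderOf (Psi 4 F g' * phi 4 F σ) := fun g' hg' =>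
    hY.exists_phi (by norm_num) hg (a := a) (c := c) (by rw [hg', hac, hσc, mul_assoc _ _ c])
  rcases Nat.eq_zero_or_pos (j % d) with h0 | h0
  · -- `18`
    obtain ⟨x, hx⟩ := key (pgl F U3 V3 U3V3 V3U3) (by rw [h0, pow_zero, det_pgl _ _ det_U3])
    rw [orderOf_of_sq fun m => even_of_phi (by norm_num) hσ hσ1, sq_phi hσ, mapGL_pgl, ← sq, map_pow,
      orderOf_pow, orderOf_U3] at hx
    exact no_18 x hx
  obtain ⟨x, hx⟩ := key (T b (ζ ^ (j % d))) (by rw [det_T, map_pow])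
  rw [orderOf_phi_T b hσ hσ1 hθ hb, theta_unit hθq, ← pow_succ', pow_right_comm] at hx
  set Q := q₀ ^ 3 with hQ
  have hQ2 : 2 ≤ Q := by
    have : q₀ ≤ q₀ ^ 3 := Nat.le_self_pow (by norm_num) q₀
    omega
  have hcard : Fintype.card F ^ 3 = Q ^ 2 := by rw [hF, hQ, ← pow_mul, ← pow_mul]
  have hQQ : Q ^ 2 - 1 = (Q + 1) * (Q - 1) := by
    have := Nat.sq_sub_sq Q 1
    rwa [one_pow] at this
  have hoQ : orderOf (ζ ^ (Q + 1)) = Q - 1 := by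
    rw [orderOf_pow, hoζ, hcard, hQQ, Nat.gcd_mul_right_left, Nat.mul_div_cancel_left _ (by omega)]
  have h1 := orderOf_pow_mul_gcd (ζ ^ (Q + 1)) (j % d)
  rw [hoQ] at h1
  obtain ⟨r, hr, hro, hrd, hr3⟩ := exists_r hq₀ (n := 3) (by norm_num) (by omega)
  have hid : j % d < d := Nat.mod_lt _ hd0
  have hd4 : d ≤ 4 := Nat.le_of_dvd (by norm_num) (Nat.gcd_dvd_left _ _)
  have hgle : Nat.gcd (Q - 1) (j % d) ≤ j % d := Nat.le_of_dvd h0 (Nat.gcd_dvd_right _ _)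
  have hgpos : 0 < Nat.gcd (Q - 1) (j % d) := Nat.gcd_pos_of_pos_right _ h0
  have hrx : r ∣ orderOf x := by
    rw [hx]
    rw [← hQ, ← h1] at hrd
    refine ((hr.dvd_mul.1 hrd).resolve_right fun h2 => ?_).mul_left _
    have := Nat.le_of_dvd hgpos h2
    omega
  have h2 := dvd_of_r3 hr (by rw [hF]; exact ord_sq hro (by norm_num)) x hrx
  rw [hx, hcard, hF, gcd_four_sq hq8] at h2
  have hQ8 := cube_mod hq8
  have hd24 : d = 2 ∨ d = 4 := by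
    have h3 : d ∣ 4 := Nat.gcd_dvd_left _ _
    have h4 : 2 ∣ d := Nat.dvd_gcd (by norm_num) (Nat.dvd_of_mod_eq_zero (by omega))
    interval_cases d <;> omega
  have hd8 : q₀ % 8 = 1 → d = 4 := fun h => Nat.gcd_eq_left (Nat.dvd_of_mod_eq_zero (by omega))
  have hd83 : q₀ % 8 = 3 → d ≠ 4 := fun h h' => by
    have h3 : d ∣ q₀ - 1 := Nat.gcd_dvd_right _ _
    rw [h'] at h3
    omega
  exact arith_phi (d := d) hQ2 h0 hid hd24 h1 (fun h => by omega) (fun h => by omega) h2 (orderOf_pos _)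

end

end Cfsg.Agent.H363.L4.Out
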