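import Cfsg.Agent.H363.L4.OutD

/-!
# Overgroups of `Inn(PSL_4(q))`, `q` a power of 3: graph automorphisms (helper363)
-/

set_option autoImplicit false
set_option linter.unusedSectionVars false

namespace Cfsg.Agent.H363.L4.Out

open Matrix
open Cfsg.Agent.H199.PslAut
open Cfsg.Agent.H363.L4 (L4 dvd_of_r3 dvd_of_r4 isPow eq_nine not_three_mul)

/-! ### the form over the prime field of order 24 -/

def A4 : Matrix (Fin 4) (Fin 4) (ZMod 3) := !![1, 1, 0, 0; 2, 1, 0, 0; 0, 0, 0, 2; 0, 0, 1, 1]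
def B4 : Matrix (Fin 4) (Fin 4) (ZMod 3) := !![2, 1, 0, 0; 2, 2, 0, 0; 0, 0, 1, 1; 0, 0, 2, 0]
def X4 : Matrix (Fin 4) (Fin 4) (ZMod 3) := !![0, 1, 0, 0; 2, 0, 0, 0; 0, 0, 2, 0; 0, 0, 2, 2]

theorem A4B4 : A4 * B4 = 1 := by decide
theorem B4A4 : B4 * A4 = 1 := by decide
theorem A4t : A4 * B4ᵀ = X4 := by decide
theorem det_A4 : A4.det = -1 := by decide

theorem X4_four : ¬ ∃ c : ZMod 3, X4 ^ 4 = c • 1 := by
  have h : ¬ ∃ c : ZMod 3, X4 * X4 * (X4 * X4) = c • 1 := by decide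
  intro ⟨c, hc⟩
  exact h ⟨c, by rw [← hc]; norm_num [pow_succ, mul_assoc]⟩
theorem X4_six : ¬ ∃ c : ZMod 3, X4 ^ 6 = c • 1 := by
  have h : ¬ ∃ c : ZMod 3, X4 * X4 * X4 * (X4 * X4 * X4) = c • 1 := by decide
  intro ⟨c, hc⟩
  exact h ⟨c, by rw [← hc]; norm_num [pow_succ, mul_assoc]⟩
theorem X4_twelve : ∃ c : ZMod 3, X4 ^ 12 = c • 1 := by
  have h : ∃ c : ZMod 3, (X4 * X4 * X4 * (X4 * X4 * X4)) * (X4 * X4 * X4 * (X4 * X4 * X4)) = c • 1 := by decide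
  obtain ⟨c, hc⟩ := h
  exact ⟨c, by rw [← hc]; norm_num [pow_succ, mul_assoc]⟩

section

variable {F : Type*} [Field F]

theorem det_pgl' {n p : ℕ} [CharP F p] {A B : Matrix (Fin n) (Fin n) (ZMod p)} (h : A * B = 1) (h' : B * A = 1)
    (hd : A.det = -1) : Matrix.GeneralLinearGroup.det (pgl F A B h h') = -1 := by
  apply Units.ext
  change (pm F A).det = _
  rw [pm_apply, ← RingHom.mapMatrix_apply, ← RingHom.map_det, hd, map_neg, map_one]
  simp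

theorem orderOf_iot_A4 [CharP F 3] :
    orderOf (Psi 4 F (pgl F A4 B4 A4B4 B4A4) * phi 4 F 1 * iot 4 F) = 24 := by
  have : Fact (Nat.Prime 3) := ⟨Nat.prime_three⟩
  have hσ : (1 : F ≃+* F) * 1 = 1 := mul_one 1
  rw [orderOf_of_sq fun m => even_of_iot (by norm_num) hσ, sq_iot hσ, map_pgl_itGL]
  have hg := coe_mul_itGL (F := F) A4B4 B4A4
  rw [A4t] at hg
  have h12 : orderOf (Psi 4 F (pgl F A4 B4 A4B4 B4A4 * itGL (pgl F A4 B4 A4B4 B4A4))) = 12 := by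
    apply orderOf_eq_of_pow_and_pow_div_prime (by norm_num)
    · rw [psi_pow_iff (by norm_num) hg]
      exact X4_twelve
    · intro p hp hd
      have h1 : p ≤ 12 := Nat.le_of_dvd (by norm_num) hd
      have h2 : p = 2 ∨ p = 3 := by
        interval_cases p <;> revert hp <;> revert hd <;> decide
      rcases h2 with rfl | rfl
      · rw [Ne, psi_pow_iff (by norm_num) hg]
        exact X4_six
      · rw [Ne, psi_pow_iff (by norm_num) hg]
        exact X4_four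
  rw [h12]

/-! ### the forms `G c` -/

/-- the form -/
def Gm (c : F) : Matrix (Fin 4) (Fin 4) F := !![0, 1, 0, 0; c, 0, 0, 0; 0, 0, 0, -1; 0, 0, 1, 1]

/-- its inverse -/
def Gi (c : F) : Matrix (Fin 4) (Fin 4) F := !![0, c⁻¹, 0, 0; 1, 0, 0, 0; 0, 0, 1, 1; 0, 0, -1, 0]

theorem Gm_mul {c : F} (hc : c ≠ 0) : Gm c * Gi c = 1 := by
  ext i j
  fin_cases i <;> fin_cases j <;> simp [Gm, Gi, Matrix.mul_apply, Fin.sum_univ_four, hc]

theorem Gi_mul {c : F} (hc : c ≠ 0) : Gi c * Gm c = 1 := by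
  ext i j
  fin_cases i <;> fin_cases j <;> simp [Gm, Gi, Matrix.mul_apply, Fin.sum_univ_four, hc]

/-- in `GL_4` -/
def G (c : Fˣ) : GL (Fin 4) F := ⟨Gm c, Gi c, Gm_mul c.ne_zero, Gi_mul c.ne_zero⟩

theorem det_G (c : Fˣ) : Matrix.GeneralLinearGroup.det (G c) = -c := by
  apply Units.ext
  change (Gm (c : F)).det = _
  rw [Gm, Matrix.det_succ_row_zero]
  simp [Fin.sum_univ_four, Matrix.det_fin_three, Fin.succAbove]

/-- the asymmetry -/
def Ma (s c : F) (m : ℕ) : Matrix (Fin 4) (Fin 4) F :=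
  !![s ^ m, 0, 0, 0; 0, c ^ m, 0, 0; 0, 0, (-1) ^ m, 0; 0, 0, (-1) ^ m * (-2 * m), (-1) ^ m]

theorem Ma_one (s c : F) : Ma s c 1 = !![s, 0, 0, 0; 0, c, 0, 0; 0, 0, -1, 0; 0, 0, 2, -1] := by
  ext i j
  fin_cases i <;> fin_cases j <;> simp [Ma]

theorem Ma_pow (s c : F) (m : ℕ) : (Ma s c 1) ^ m = Ma s c m := by
  induction m with
  | zero =>
    ext i j
    fin_cases i <;> fin_cases j <;> simp [Ma]
  | succ m ih =>
    rw [pow_succ, ih, Ma_one]
    ext i j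
    fin_cases i <;> fin_cases j <;> simp [Ma, Matrix.mul_apply, Fin.sum_univ_four, pow_succ]
    ring

theorem coe_G_mul (σ : F ≃+* F) (c : Fˣ) :
    ((G c * mapGL σ (itGL (G c)) : GL (Fin 4) F) : Matrix (Fin 4) (Fin 4) F) = Ma ((σ c)⁻¹) c 1 := by
  rw [Units.val_mul, coe_mapGL, coe_itGL]
  change Gm (c : F) * ((Gi (c : F))ᵀ).map σ = _
  rw [Ma_one]
  ext i j
  fin_cases i <;> fin_cases j <;> simp [Gm, Gi, Matrix.mul_apply, Fin.sum_univ_four]
  norm_num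

end

end Cfsg.Agent.H363.L4.Out
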