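import Cfsg.Agent.H363.L4.OutE

/-!
# Overgroups of `Inn(PSL_4(q))`, `q` a power of 3: graph automorphisms, conclusion (helper363)
-/

set_option autoImplicit false
set_option linter.unusedSectionVars false

namespace Cfsg.Agent.H363.L4.Out

open Matrix
open Cfsg.Agent.H199.PslAut
open Cfsg.Agent.H363.L4 (L4 dvd_of_r3 dvd_of_r4 isPow eq_nine not_three_mul)

section

variable {F : Type*} [Field F] [Fintype F]

/-- the order of `G c` -/
theorem dvd_of_G [CharP F 3] {σ : F ≃+* F} (hσ : σ * σ = 1) {ρ : Fˣ} (hρ : orderOf ρ = Fintype.card F - 1) {i t o : ℕ}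
    (hi : i % 2 = 1) (ht : 3 ≤ t) (hq : Fintype.card F - 1 = 2 ^ t * o) :
    3 * (2 * 2 ^ t) ∣ orderOf (Psi 4 F (G (ρ ^ i)) * phi 4 F σ * iot 4 F) := by
  rw [orderOf_of_sq fun m => even_of_iot (by norm_num) hσ, sq_iot hσ]
  set m := orderOf (Psi 4 F (G (ρ ^ i) * mapGL σ (itGL (G (ρ ^ i))))) with hm
  have h1 := (psi_pow_eq_one_iff (by norm_num)).1
    (pow_orderOf_eq_one (Psi 4 F (G (ρ ^ i) * mapGL σ (itGL (G (ρ ^ i))))))
  rw [← hm, coe_G_mul, Ma_pow] at h1
  obtain ⟨c, hc⟩ := h1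
  have h32 := congrFun (congrFun hc 3) 2
  have h22 := congrFun (congrFun hc 2) 2
  have h11 := congrFun (congrFun hc 1) 1
  simp [Ma] at h32 h22 h11
  have h2 : (2 : F) ≠ 0 := by
    intro h
    have h4 : ((2 : ℕ) : F) = 0 := by exact_mod_cast h
    rw [CharP.cast_eq_zero_iff F 3] at h4
    norm_num at h4
  have h3m : 3 ∣ m := by
    rw [← CharP.cast_eq_zero_iff F 3]
    exact h32.resolve_left h2
  have hcop : Nat.Coprime (2 ^ t) i := Nat.Coprime.pow_left _ (Nat.coprime_two_left.2 (Nat.odd_iff.2 hi))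
  have key : ∀ k : ℕ, ((ρ ^ i : Fˣ) : F) ^ k = 1 → 2 ^ t ∣ k := by
    intro k hk
    have h5 : ρ ^ (i * k) = 1 := by
      apply Units.ext
      rw [pow_mul, Units.val_pow_eq_pow_val, hk, Units.val_one]
    have h6 := orderOf_dvd_of_pow_eq_one h5
    rw [hρ, hq] at h6
    exact hcop.dvd_of_dvd_mul_left ((dvd_mul_right _ _).trans h6)
  have h2m : 2 ^ t ∣ m := by
    have h11' : ((ρ ^ i : Fˣ) : F) ^ m = (-1) ^ m := by
      rw [h22, ← h11]
      simp
    rcases Nat.even_or_odd m with he | ho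
    · apply key
      rw [h11', he.neg_one_pow]
    · exfalso
      have h7 := key (2 * m) (by rw [mul_comm, pow_mul, h11', ← pow_mul, mul_comm, pow_mul]; simp)
      have h8 : 2 ^ 3 ∣ 2 * m := (pow_dvd_pow 2 ht).trans h7
      obtain ⟨u, hu⟩ := ho
      omega
  have h9 : 3 * 2 ^ t ∣ m := Nat.Coprime.mul_dvd_of_dvd_of_dvd (Nat.Coprime.pow_right _ (by norm_num)) h3m h2m
  rw [show 3 * (2 * 2 ^ t) = 2 * (3 * 2 ^ t) by ring]
  exact Nat.mul_dvd_mul_left 2 h9

/-- no such elements in `PSL_4(q)` -/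
theorem no_G [CharP F 3] (hq8 : Fintype.card F % 8 = 1) {ρ : Fˣ} (hρ : orderOf ρ = Fintype.card F - 1)
    {σ : F ≃+* F} (hσ : σ * σ = 1) {i : ℕ} (hi : i % 2 = 1) (x : L4 F)
    (hx : orderOf x = orderOf (Psi 4 F (G (ρ ^ i)) * phi 4 F σ * iot 4 F)) : False := by
  have hq1 : 1 < Fintype.card F := Fintype.one_lt_card
  obtain ⟨t, o, ho, hto⟩ := Nat.exists_eq_pow_mul_and_not_dvd (n := Fintype.card F - 1) (by omega) 2 (by norm_num)
  have ht : 3 ≤ t := by
    by_contra hlt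
    have h8 : 8 ∣ Fintype.card F - 1 := Nat.dvd_of_mod_eq_zero (by omega)
    rw [hto] at h8
    have h9 : 2 ^ t * o % 8 = 0 := Nat.mod_eq_zero_of_dvd h8
    have : t = 0 ∨ t = 1 ∨ t = 2 := by omega
    rcases this with rfl | rfl | rfl <;> omega
  have h1 := dvd_of_G hσ hρ hi ht hto
  rw [← hx] at h1
  obtain ⟨a, ha⟩ : ∃ a, Fintype.card F = 8 * a + 1 := ⟨Fintype.card F / 8, by omega⟩
  refine not_three_mul (h := 2 ^ t) (o := o * (4 * a + 1)) ?_ (by positivity) ?_ x h1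
  · rw [Nat.mul_mod]
    have : o % 2 = 1 := by omega
    rw [this]
    omega
  · have h3 : Fintype.card F ^ 2 - 1 = (Fintype.card F - 1) * (Fintype.card F + 1) := by
      have := Nat.sq_sub_sq (Fintype.card F) 1
      rw [one_pow] at this
      rw [this, mul_comm]
    rw [h3, hto, ha]
    ring

/-! ### the hermitian torus -/

theorem orderOf_iot_T {K : Type*} [Field K] [Algebra F K] (b : Module.Basis (Fin 3) F K) {σ : F ≃+* F} {θ : K ≃+* K}
    (hσ : σ * σ = 1)
    (hθ : ∀ a, θ (algebraMap F K a) = algebraMap F K (σ a)) (hb : ∀ i, θ (b i) = b i) (x : Kˣ) (P : GL (Fin 3) F)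
    (hP : (P : Matrix (Fin 3) (Fin 3) F) = Algebra.traceMatrix F b) :
    orderOf (Psi 4 F (blG P * T b x) * phi 4 F σ * iot 4 F) = 2 * orderOf (x * (Units.map (θ : K →* K) x)⁻¹) := by
  rw [orderOf_of_sq fun m => even_of_iot (by norm_num) hσ, sq_iot hσ]
  have hPσ : mapGL σ (blG P) = blG P := by
    rw [mapGL_blG]
    congr 1
    apply Units.ext
    rw [coe_mapGL, hP]
    exact gram_map b hθ hb
  have hsym : itGL (blG P * T b x) = (blG P * T b x)⁻¹ := by
    rw [T_apply, ← map_mul, itGL_blG, ← map_inv]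
    congr 1
    rw [← _root_.inv_inj, inv_inv]
    apply Units.ext
    rw [coe_itGL_inv, Units.val_mul, coe_Mu, hP]
    exact gram_symm b (x : K)
  rw [hsym, map_inv (mapGL σ), map_mul (mapGL σ), hPσ, mapGL_T b hθ hb, _root_.mul_inv_rev, mul_assoc, ← mul_assoc (T b x),
    ← map_inv (T b), ← map_mul (T b), ← mul_assoc, map_mul, map_mul, map_inv, orderOf_conj', orderOf_psi_T]

/-- the Gram matrix -/
theorem exists_P {K : Type*} [Field K] [Algebra F K] [Finite K] (b : Module.Basis (Fin 3) F K) :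
    ∃ P : GL (Fin 3) F, (P : Matrix (Fin 3) (Fin 3) F) = Algebra.traceMatrix F b := by
  have : FiniteDimensional F K := Module.Finite.of_basis b
  have h : IsUnit (Algebra.traceMatrix F b) := by
    rw [Matrix.isUnit_iff_isUnit_det, isUnit_iff_ne_zero]
    rw [Algebra.traceMatrix_of_basis]
    exact det_traceForm_ne_zero b
  exact ⟨h.unit, rfl⟩

end

end Cfsg.Agent.H363.L4.Out
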