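import Cfsg.Agent.H363.L4.OutF

/-!
# Overgroups of `Inn(PSL_4(q))`, `q` a power of 3: graph automorphisms, conclusion (helper363)
-/

set_option autoImplicit false
set_option linter.unusedSectionVars false

namespace Cfsg.Agent.H363.L4.Out

open Matrix
open Cfsg.Agent.H199.PslAut
open Cfsg.Agent.H363.L4 (L4 dvd_of_r3 dvd_of_r4 isPow eq_nine not_three_mul not_24)

section

variable {F : Type*} [Field F] [Fintype F] {Y : Subgroup (MulAut (L4 F))}

/-- the cosets of graph automorphisms -/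
theorem Bd.key_iot (hY : Bd 4 F Y) {g : GL (Fin 4) F} {σ : F ≃+* F} (hg : Psi 4 F g * phi 4 F σ * iot 4 F ∈ Y)
    {A : ℕ} (hA : ∀ c : Fˣ, c * Units.map (σ : F →* F) c = c ^ A) {ρ : Fˣ} {j : ℕ}
    (hj : Matrix.GeneralLinearGroup.det g = ρ ^ j) {i : ℕ} (hi : (Nat.gcd 4 A : ℤ) ∣ (i : ℤ) - (j : ℤ))
    {g' : GL (Fin 4) F} {e : Fˣ} (he : Matrix.GeneralLinearGroup.det g' * e ^ A = ρ ^ i) :
    ∃ x : L4 F, orderOf x = orderOf (Psi 4 F g' * phi 4 F σ * iot 4 F) := by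
  obtain ⟨a, c, hac⟩ := exists_zpow ρ (A : ℤ) (i : ℤ) (j : ℤ) hi
  rw [_root_.zpow_natCast, _root_.zpow_natCast, _root_.zpow_natCast] at hac
  refine hY.exists_iot (by norm_num) hg (a := a) (c := e * c⁻¹) ?_
  rw [mul_assoc, hA, mul_pow, ← mul_assoc, he, hac, hj, inv_pow, mul_inv_cancel_right]

theorem neg_one_eq {ρ : Fˣ} {j m : ℕ} (hρ : ∀ D : Fˣ, ∃ j : ℕ, D = ρ ^ j) (ho : orderOf ρ = 2 * m) (hm : 0 < m) :
    (-1 : Fˣ) = ρ ^ m := by
  have h1 : (ρ ^ m) * (ρ ^ m) = 1 := by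
    rw [← pow_add, ← two_mul, ← ho, pow_orderOf_eq_one]
  have h2 : ρ ^ m ≠ 1 := fun h => by
    have := Nat.le_of_dvd hm (orderOf_dvd_of_pow_eq_one h)
    omega
  have h3 : ((ρ ^ m : Fˣ) : F) * ((ρ ^ m : Fˣ) : F) = 1 := by
    rw [← Units.val_mul, h1, Units.val_one]
  rcases mul_self_eq_one_iff.1 h3 with h | h
  · exact absurd (Units.ext h) h2
  · apply Units.ext
    rw [h]
    simp

/-- **Graph automorphisms**, without field automorphism. -/
theorem Bd.no_iot_one [CharP F 3] (hY : Bd 4 F Y) {g : GL (Fin 4) F}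
    (hg : Psi 4 F g * phi 4 F 1 * iot 4 F ∈ Y) : False := by
  obtain ⟨K, _, _, _, ζ, hfr, hcK, hζ, hoζ⟩ := exists_ext F
  set ρ := Units.map (Algebra.norm F (S := K)) ζ with hρ
  have hρall := exists_rho (F := F) hζ
  have hρo := orderOf_rho (F := F) hζ
  rw [← hρ] at hρall hρo
  obtain ⟨j, hj⟩ := hρall (Matrix.GeneralLinearGroup.det g)
  have hσ : (1 : F ≃+* F) * 1 = 1 := mul_one 1
  have hA : ∀ c : Fˣ, c * Units.map ((1 : F ≃+* F) : F →* F) c = c ^ 2 := fun c => by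
    rw [sq]
    rfl
  have hdvd : ((Nat.gcd 4 2 : ℕ) : ℤ) ∣ ((j % 2 : ℕ) : ℤ) - (j : ℤ) := by
    have : Nat.gcd 4 2 = 2 := rfl
    rw [this]
    omega
  obtain ⟨k, hk, hFk⟩ := isPow (F := F) Nat.prime_three
  have hmod := three_pow_mod k
  rw [← hFk] at hmod
  have hq1 : 1 < Fintype.card F := Fintype.one_lt_card
  have hq2 : Fintype.card F - 1 = 2 * ((Fintype.card F - 1) / 2) := by omega
  have hneg := neg_one_eq (j := j) hρall (hρo.trans hq2) (by omega)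
  rcases (by omega : j % 2 = 0 ∨ j % 2 = 1) with h0 | h0
  · obtain ⟨x, hx⟩ := hY.key_iot hg hA hj hdvd (g' := pgl F A3 B3 A3B3 B3A3) (e := 1)
      (by rw [h0, pow_zero, one_pow, mul_one, det_pgl _ _ det_A3])
    rw [orderOf_iot_three hσ] at hx
    exact no_18 x hx
  · rcases hmod with h8 | h8
    · -- `q ≡ 1` modulo 8
      obtain ⟨u, hu⟩ : ∃ u, (Fintype.card F - 1) / 2 = 2 * u := ⟨(Fintype.card F - 1) / 4, by omega⟩
      obtain ⟨x, hx⟩ := hY.key_iot hg hA hj hdvd (g' := G (ρ ^ 1)) (e := ρ ^ u) (by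
        rw [det_G, h0, ← pow_mul, mul_comm u, ← hu, ← hneg]
        rw [mul_neg, mul_one, neg_neg])
      exact no_G h8 hρo hσ (by norm_num) x hx
    · -- `q ≡ 3` modulo 8
      obtain ⟨u, hu⟩ : ∃ u, (Fintype.card F - 1) / 2 = 2 * u + 1 := ⟨(Fintype.card F - 1) / 4, by omega⟩
      obtain ⟨x, hx⟩ := hY.key_iot hg hA hj hdvd (g' := pgl F A4 B4 A4B4 B4A4) (e := (ρ ^ u)⁻¹) (by
        rw [det_pgl' _ _ det_A4, h0, inv_pow, ← pow_mul, mul_comm u, mul_inv_eq_iff_eq_mul, ← pow_add, add_comm 1,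
          ← hu, ← hneg])
      rw [orderOf_iot_A4] at hx
      exact not_24 h8 x (by rw [hx])

/-- **Graph-field automorphisms.** -/
theorem Bd.no_iot_two [CharP F 3] (hY : Bd 4 F Y) {g : GL (Fin 4) F} {σ : F ≃+* F} (hσ : σ * σ = 1) (hσ1 : σ ≠ 1)
    (hg : Psi 4 F g * phi 4 F σ * iot 4 F ∈ Y) : False := by
  obtain ⟨q₀, hq₀, hF, hσq⟩ := exists_inv hσ hσ1
  obtain ⟨K, _, _, _, ζ, hfr, hcK, hζ, hoζ⟩ := exists_ext F
  obtain ⟨θ, hθq, hθ2, hθ⟩ := exists_theta hcK (by rw [Nat.card_eq_fintype_card, hF]) hσq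
  obtain ⟨b, hb⟩ := exists_basis_fixed hfr (orderOf_two hσ hσ1) hθ2 hθ
  have hq8 := exists_q0 (F := F) hF
  set ρ := Units.map (Algebra.norm F (S := K)) ζ with hρ
  have hρall := exists_rho (F := F) hζ
  have hρo := orderOf_rho (F := F) hζ
  rw [← hρ] at hρall hρo
  obtain ⟨j, hj⟩ := hρall (Matrix.GeneralLinearGroup.det g)
  have hA : ∀ c : Fˣ, c * Units.map (σ : F →* F) c = c ^ (q₀ + 1) := fun c => by
    rw [pow_succ']
    congr 1
    apply Units.ext
    exact hσq _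
  set d := Nat.gcd 4 (q₀ + 1) with hd
  have hd0 : 0 < d := Nat.gcd_pos_of_pos_left _ (by norm_num)
  have hdvd : (d : ℤ) ∣ ((j % d : ℕ) : ℤ) - (j : ℤ) := by
    refine ⟨-((j / d : ℕ) : ℤ), ?_⟩
    have := Nat.mod_add_div j d
    have h2 : (j : ℤ) = ((j % d : ℕ) : ℤ) + (d : ℤ) * ((j / d : ℕ) : ℤ) := by exact_mod_cast this.symm
    linear_combination -h2
  have hid : j % d < d := Nat.mod_lt _ hd0
  have hd4 : d ≤ 4 := Nat.le_of_dvd (by norm_num) (Nat.gcd_dvd_left _ _)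
  have hq1 : 1 < Fintype.card F := Fintype.one_lt_card
  obtain ⟨v, hv⟩ : ∃ v, q₀ = 2 * v + 1 := ⟨q₀ / 2, by omega⟩
  have hqm : Fintype.card F - 1 = 2 * (v * (q₀ + 1)) := by
    have : q₀ ^ 2 = 2 * (v * (q₀ + 1)) + 1 := by rw [hv]; ring
    rw [hF]
    omega
  have hneg := neg_one_eq (j := j) hρall (hρo.trans hqm) (by
    have : 0 < v := by omega
    positivity)
  have h8 : Fintype.card F % 8 = 1 := by
    rw [hF, Nat.pow_mod]
    rcases hq8 with h | h <;> rw [h]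
  rcases Nat.eq_zero_or_pos (j % d) with h0 | h0
  · obtain ⟨x, hx⟩ := hY.key_iot hg hA hj hdvd (g' := pgl F A3 B3 A3B3 B3A3) (e := 1)
      (by rw [h0, pow_zero, one_pow, mul_one, det_pgl _ _ det_A3])
    rw [orderOf_iot_three hσ] at hx
    exact no_18 x hx
  rcases (by omega : (j % d) % 2 = 1 ∨ (j % d) = 2) with h1 | h1
  · -- odd
    obtain ⟨x, hx⟩ := hY.key_iot hg hA hj hdvd (g' := G (ρ ^ (j % d))) (e := ρ ^ v) (by
      rw [det_G, ← pow_mul, ← hneg]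
      rw [mul_neg, mul_one, neg_neg])
    exact no_G h8 hρo hσ h1 x hx
  · -- `j % d = 2`, `d = 4`, `q₀ ≡ 3` modulo 4
    have hd44 : d = 4 := by
      have h3 : d ∣ 4 := Nat.gcd_dvd_left _ _
      have : d = 3 ∨ d = 4 := by omega
      rcases this with h | h
      · rw [h] at h3; norm_num at h3
      · exact h
    have hq34 : q₀ % 8 = 3 := by
      rcases hq8 with h | h
      · exfalso
        have h3 : d ∣ q₀ + 1 := Nat.gcd_dvd_right _ _
        rw [hd44] at h3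
        omega
      · exact h
    obtain ⟨P, hP⟩ := exists_P (F := F) b
    -- the determinant of `P` is a norm
    have hPσ : Units.map (σ : F →* F) (Matrix.GeneralLinearGroup.det P) = Matrix.GeneralLinearGroup.det P := by
      rw [← det_mapGL]
      congr 1
      apply Units.ext
      rw [coe_mapGL, hP]
      exact gram_map b hθ hb
    obtain ⟨s, hs⟩ := hρall (Matrix.GeneralLinearGroup.det P)
    have hsd : (q₀ + 1) ∣ s := by
      have h3 : (ρ ^ s) ^ q₀ = ρ ^ s := by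
        rw [← hs]
        conv_rhs => rw [← hPσ]
        apply Units.ext
        exact (hσq _).symm
      have h4 : ρ ^ (s * (2 * v)) = 1 := by
        rw [hv, ← pow_mul, mul_add, mul_one, pow_add] at h3
        exact mul_eq_right.1 h3
      have h5 := orderOf_dvd_of_pow_eq_one h4
      rw [hρo, hqm, show 2 * (v * (q₀ + 1)) = (q₀ + 1) * (2 * v) by ring] at h5
      exact Nat.dvd_of_mul_dvd_mul_right (by omega) h5
    obtain ⟨w, hw⟩ := hsd
    obtain ⟨x, hx⟩ := hY.key_iot hg hA hj hdvd (g' := blG P * T b (ζ ^ (j % d))) (e := (ρ ^ w)⁻¹) (by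
      rw [map_mul, det_blG, det_T, map_pow, ← hρ, hs, inv_pow, ← pow_mul, mul_comm w, ← hw]
      rw [mul_comm (ρ ^ s), mul_inv_cancel_right])
    rw [orderOf_iot_T b hσ hθ hb _ P hP, theta_unit hθq, h1] at hx
    set Q := q₀ ^ 3 with hQ
    have hQ8 := cube_mod hq8
    have hQ2 : 2 ≤ Q := by
      have : q₀ ≤ q₀ ^ 3 := Nat.le_self_pow (by norm_num) q₀
      omega
    have hcard : Fintype.card F ^ 3 = Q ^ 2 := by rw [hF, hQ, ← pow_mul, ← pow_mul]
    have hQQ : Q ^ 2 - 1 = (Q + 1) * (Q - 1) := by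
      have := Nat.sq_sub_sq Q 1
      rwa [one_pow] at this
    have hN : orderOf (ζ ^ 2 * ((ζ ^ 2) ^ Q)⁻¹) = (Q + 1) / 2 := by
      have h3 : ζ ^ 2 * ((ζ ^ 2) ^ Q)⁻¹ = ((ζ ^ (2 * (Q - 1))))⁻¹ := by
        rw [← pow_mul, show 2 * Q = 2 * (Q - 1) + 2 by omega, pow_add, mul_inv, mul_comm ((ζ ^ (2 * (Q - 1)))⁻¹),
          mul_inv_cancel_left]
      rw [h3, orderOf_inv, orderOf_pow, hoζ, hcard, hQQ, Nat.gcd_mul_right]
      have h4 : Nat.gcd (Q + 1) 2 = 2 := Nat.gcd_eq_right (Nat.dvd_of_mod_eq_zero (by omega))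
      rw [h4, Nat.mul_div_mul_right _ _ (by omega)]
    rw [hN] at hx
    have hx' : orderOf x = Q + 1 := by omega
    obtain ⟨r, hr, hro, hrd, hr6⟩ := exists_r hq₀ (n := 6) (by norm_num) (by omega)
    have hrf := Fact.mk hr
    have hro2 : orderOf ((Fintype.card F : ℕ) : ZMod r) = 3 := by
      rw [hF, Nat.cast_pow, orderOf_pow' _ (by norm_num), hro]
      norm_num
    have hrQ : r ∣ Q + 1 := by
      have h3 : q₀ ^ 6 - 1 = (Q + 1) * (Q - 1) := by rw [← hQQ, hQ, ← pow_mul]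
      rw [h3] at hrd
      refine (hr.dvd_mul.1 hrd).resolve_right fun h4 => ?_
      rw [← ZMod.natCast_eq_zero_iff, Nat.cast_sub (by omega), hQ, Nat.cast_pow, Nat.cast_one, sub_eq_zero] at h4
      have h5 := orderOf_dvd_of_pow_eq_one h4
      rw [hro] at h5
      norm_num at h5
    have h6 := dvd_of_r3 hr hro2 x (by rw [hx']; exact hrQ)
    rw [hx', hcard, hF, gcd_four_sq hq8, hQQ] at h6
    have h7 := Nat.dvd_of_mul_dvd_mul_left (by omega) h6
    omega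

end

end Cfsg.Agent.H363.L4.Out
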