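import Cfsg.Agent.H363.L4.OutG

/-!
# Overgroups of `Inn(PSL_4(q))`: involutions in characteristic two; field automorphisms of odd order (helper363)
-/

set_option autoImplicit false
set_option linter.unusedSectionVars false

namespace Cfsg.Agent.H363.L4.Out

open Matrix
open Cfsg.Agent.H199.PslAut
open Cfsg.Agent.ClassicalGeometry.AutPSL.Root
open Cfsg.Agent.ClassicalGeometry.AutPSL.Auto
open Cfsg.Agent.H363.L4 (L4 dvd_of_r3 dvd_of_r4 isPow eq_nine not_three_mul not_24 not_eight not_four_mul not_p_of_r4 exists_r4)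

section

variable {F : Type*} [Field F] [Fintype F] {Y : Subgroup (MulAut (L4 F))}

/-- fourth roots in characteristic two -/
theorem exists_fourth [CharP F 2] (D : Fˣ) : ∃ a : Fˣ, D = a ^ 4 := by
  have : Fact (Nat.Prime 2) := ⟨Nat.prime_two⟩
  have hinj : Function.Injective fun c : Fˣ => c ^ 4 := by
    intro a b hab
    apply Units.ext
    have h1 : (a : F) ^ 4 = (b : F) ^ 4 := by
      have := congrArg Units.val hab
      simpa using this
    have h2 : (frobenius F 2) (frobenius F 2 (a : F)) = (frobenius F 2) (frobenius F 2 (b : F)) := by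
      rw [frobenius_def, frobenius_def, frobenius_def, frobenius_def, ← pow_mul, ← pow_mul]
      exact h1
    exact frobenius_inj F 2 (frobenius_inj F 2 h2)
  obtain ⟨a, ha⟩ := (Finite.injective_iff_surjective.1 hinj) D
  exact ⟨a, ha.symm⟩

/-! ### characteristic two -/

/-- **Graph automorphisms, characteristic two** -/
theorem Bd.no_iot_char_two [CharP F 2] (hY : Bd 4 F Y) {g : GL (Fin 4) F} {σ : F ≃+* F} (hσ : σ * σ = 1)
    (hg : Psi 4 F g * phi 4 F σ * iot 4 F ∈ Y) : False := by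
  obtain ⟨a, ha⟩ := exists_fourth (Matrix.GeneralLinearGroup.det g)
  obtain ⟨x, hx⟩ := hY.exists_iot (g' := pgl F A2 B2 A2B2 B2A2) (by norm_num) hg (a := a⁻¹) (c := 1) (by
    rw [det_pgl _ _ det_A2, mul_one, map_one, mul_one, ha, inv_pow, mul_inv_cancel])
  rw [orderOf_iot_two hσ] at hx
  exact not_eight x (by rw [hx])

/-- the nilpotent matrix -/
def Nn : Matrix (Fin 4) (Fin 4) F := !![0, 1, 0, 0; 0, 0, 1, 0; 0, 0, 0, 1; 0, 0, 0, 0]

/-- `1 + a N` -/
def Un (a : F) : Matrix (Fin 4) (Fin 4) F := !![1, a, 0, 0; 0, 1, a, 0; 0, 0, 1, a; 0, 0, 0, 1]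

theorem det_Un (a : F) : (Un a).det = 1 := by
  rw [Un, Matrix.det_succ_row_zero]
  simp [Fin.sum_univ_four, Matrix.det_fin_three, Fin.succAbove]

theorem Un_mul (a b : F) : Un a * Un b = !![1, a + b, a * b, 0; 0, 1, a + b, a * b; 0, 0, 1, a + b; 0, 0, 0, 1] := by
  ext i j
  fin_cases i <;> fin_cases j <;> simp [Un, Matrix.mul_apply, Fin.sum_univ_four] <;> ring

theorem Un_sq [CharP F 2] (s t : F) :
    !![1, s, t, 0; 0, 1, s, t; 0, 0, 1, s; 0, 0, 0, 1] ^ 2 = !![1, 0, s ^ 2, 0; 0, 1, 0, s ^ 2; 0, 0, 1, 0; 0, 0, 0, 1] := by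
  have h2 : (2 : F) = 0 := CharTwo.two_eq_zero
  rw [sq]
  ext i j
  fin_cases i <;> fin_cases j <;> simp [Matrix.mul_apply, Fin.sum_univ_four] <;>
    first | linear_combination s * h2 | linear_combination t * h2 | linear_combination s * t * h2 | ring

theorem Un_four [CharP F 2] (s t : F) :
    !![1, s, t, 0; 0, 1, s, t; 0, 0, 1, s; 0, 0, 0, 1] ^ 4 = (1 : Matrix (Fin 4) (Fin 4) F) := by
  have h2 : (2 : F) = 0 := CharTwo.two_eq_zero
  have h4 : ∀ M : Matrix (Fin 4) (Fin 4) F, M ^ 4 = (M ^ 2) ^ 2 := fun M => by rw [← pow_mul]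
  rw [h4, Un_sq, sq]
  ext i j
  fin_cases i <;> fin_cases j <;> simp [Matrix.mul_apply, Fin.sum_univ_four]
  · linear_combination s ^ 2 * h2
  · linear_combination s ^ 2 * h2

/-- **Field automorphisms of order two, characteristic two** -/
theorem Bd.no_phi_char_two [CharP F 2] (hY : Bd 4 F Y) {g : GL (Fin 4) F} {σ : F ≃+* F} (hσ : σ * σ = 1) (hσ1 : σ ≠ 1)
    (hg : Psi 4 F g * phi 4 F σ ∈ Y) : False := by
  obtain ⟨a, ha⟩ : ∃ a, σ a ≠ a := by
    by_contra hcon
    push Not at hcon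
    exact hσ1 (RingEquiv.ext hcon)
  let U : Matrix.SpecialLinearGroup (Fin 4) F := ⟨Un a, det_Un a⟩
  obtain ⟨e, he⟩ := exists_fourth (Matrix.GeneralLinearGroup.det g)
  have hdet : Matrix.GeneralLinearGroup.det (U : GL (Fin 4) F) = 1 := by
    apply Units.ext
    exact det_Un a
  obtain ⟨x, hx⟩ := hY.exists_phi (g' := (U : GL (Fin 4) F)) (by norm_num) hg (a := e⁻¹) (c := 1) (by
    rw [hdet, mul_one, map_one, mul_one, he, inv_pow, mul_inv_cancel])
  rw [orderOf_of_sq fun m => even_of_phi (by norm_num) hσ hσ1, sq_phi hσ] at hx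
  have hprod : (((U : GL (Fin 4) F) * mapGL σ (U : GL (Fin 4) F) : GL (Fin 4) F) : Matrix (Fin 4) (Fin 4) F) =
      !![1, a + σ a, a * σ a, 0; 0, 1, a + σ a, a * σ a; 0, 0, 1, a + σ a; 0, 0, 0, 1] := by
    rw [Units.val_mul, coe_mapGL, ← Un_mul]
    congr 1
    change (Un a).map σ = _
    ext i j
    fin_cases i <;> fin_cases j <;> simp [Un]
  have h4 : orderOf (Psi 4 F ((U : GL (Fin 4) F) * mapGL σ (U : GL (Fin 4) F))) = 4 := by
    have : Fact (Nat.Prime 2) := ⟨Nat.prime_two⟩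
    refine orderOf_eq_prime_pow (p := 2) (n := 1) ?_ ?_
    · rw [pow_one, psi_pow_eq_one_iff (by norm_num), hprod, Un_sq]
      rintro ⟨c, hc⟩
      have h := congrFun (congrFun hc 0) 2
      simp at h
      apply ha
      have h2 : (2 : F) = 0 := CharTwo.two_eq_zero
      linear_combination h - a * h2
    · rw [show 2 ^ (1 + 1) = 4 by norm_num, psi_pow_eq_one_iff (by norm_num), hprod, Un_four]
      exact ⟨1, (one_smul _ _).symm⟩
  rw [h4] at hx
  exact not_eight x (by rw [hx])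

/-! ### field automorphisms of odd prime order -/

theorem phi_comm {σ : F ≃+* F} {g : GL (Fin 4) F} (hg : mapGL σ g = g) : Commute (phi 4 F σ) (Psi 4 F g) := by
  change phi 4 F σ * Psi 4 F g = Psi 4 F g * phi 4 F σ
  rw [phi_mul_Psi, hg]

/-- products with fixed elements -/
theorem Bd.exists_mul (hY : Bd 4 F Y) {σ : F ≃+* F} (hσ : phi 4 F σ ∈ Y) {g : GL (Fin 4) F} (hg : mapGL σ g = g)
    (hdet : Matrix.GeneralLinearGroup.det g = 1) (hc : Nat.Coprime (orderOf σ) (orderOf (Psi 4 F g))) :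
    ∃ x : L4 F, orderOf x = orderOf σ * orderOf (Psi 4 F g) := by
  have h1 : Psi 4 F g ∈ Y := hY.mem_of_det (c := 1) (by rw [hdet, one_pow])
  obtain ⟨x, hx⟩ := hY.ord _ (Y.mul_mem hσ h1)
  refine ⟨x, ?_⟩
  have ho : orderOf (phi 4 F σ) = orderOf σ := orderOf_injective _ (phi_injective (by norm_num)) σ
  rw [hx, (phi_comm hg).orderOf_mul_eq_mul_orderOf_of_coprime (by rw [ho]; exact hc), ho]

end

end Cfsg.Agent.H363.L4.Out
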