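import Cfsg.Agent.H363.L4.OutA

/-!
# The cubic extension: tori in `ΓL_4` (helper363)
-/

set_option autoImplicit false
set_option linter.unusedSectionVars false

namespace Cfsg.Agent.H363.L4.Out

open Matrix
open Cfsg.Agent.H199.PslAut
open Cfsg.Agent.CpAut.Descent

/-! ### involutions of finite fields -/

theorem orderOf_two {G : Type*} [Group G] {θ : G} (hθ : θ * θ = 1) (hθ1 : θ ≠ 1) : orderOf θ = 2 := by
  have : Fact (Nat.Prime 2) := ⟨Nat.prime_two⟩
  exact orderOf_eq_prime (by rw [sq, hθ]) hθ1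

/-- an involution of a finite field is a power map -/
theorem exists_sq_frob {K : Type*} [Field K] [Finite K] {θ : K ≃+* K} (hθ : θ * θ = 1) (hθ1 : θ ≠ 1) :
    ∃ Q : ℕ, 2 ≤ Q ∧ Nat.card K = Q ^ 2 ∧ ∀ x, θ x = x ^ Q := by
  classical
  set E := RingHom.eqLocusField (θ : K →+* K) (RingHom.id K) with hE
  have hc := H202.Descent.card_fixed (orderOf_two hθ hθ1)
  rw [← hE] at hc
  have : Fintype E := Fintype.ofFinite E
  have hQ : 2 ≤ Nat.card E := Finite.one_lt_card
  refine ⟨Nat.card E, hQ, hc, ?_⟩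
  have hfr : Module.finrank E K = 2 := by
    have h1 := Module.natCard_eq_pow_finrank (K := E) (V := K)
    rw [hc] at h1
    exact (Nat.pow_right_injective hQ h1).symm
  let θ' : K ≃ₐ[E] K := AlgEquiv.ofRingEquiv (f := θ) fun r => r.2
  obtain ⟨⟨i, hi⟩, h⟩ := (FiniteField.bijective_frobeniusAlgEquivOfAlgebraic_pow E K).2 θ'
  rw [hfr] at hi
  have h' : ∀ x, ((FiniteField.frobeniusAlgEquivOfAlgebraic E K) ^ i) x = θ x := fun x => DFunLike.congr_fun h x
  have hi01 : i = 0 ∨ i = 1 := by omega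
  rcases hi01 with rfl | rfl
  · exfalso
    apply hθ1
    ext x
    rw [← h', pow_zero]
    rfl
  · intro x
    rw [← h', pow_one, FiniteField.coe_frobeniusAlgEquivOfAlgebraic, Nat.card_eq_fintype_card]

/-! ### block matrices -/

section block

variable {F : Type*} [Field F]

/-- `A ↦ diag (A, 1)` -/
def bl : Matrix (Fin 3) (Fin 3) F →* Matrix (Fin 4) (Fin 4) F where
  toFun A := Matrix.reindex finSumFinEquiv finSumFinEquiv (Matrix.fromBlocks A 0 0 (1 : Matrix (Fin 1) (Fin 1) F))
  map_one' := by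
    rw [fromBlocks_one]
    simp
  map_mul' A B := by
    rw [Matrix.reindex_apply, Matrix.reindex_apply, Matrix.reindex_apply, Matrix.submatrix_mul_equiv,
      fromBlocks_multiply]
    simp

theorem bl_apply (A : Matrix (Fin 3) (Fin 3) F) :
    bl A = Matrix.reindex finSumFinEquiv finSumFinEquiv (Matrix.fromBlocks A 0 0 (1 : Matrix (Fin 1) (Fin 1) F)) := rfl

theorem bl_det (A : Matrix (Fin 3) (Fin 3) F) : (bl A).det = A.det := by
  rw [bl_apply, Matrix.det_reindex_self, det_fromBlocks_zero₂₁, det_one, mul_one]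

theorem bl_transpose (A : Matrix (Fin 3) (Fin 3) F) : (bl A)ᵀ = bl Aᵀ := by
  rw [bl_apply, bl_apply, transpose_reindex, fromBlocks_transpose, transpose_zero, transpose_zero, transpose_one]

theorem bl_map (σ : F ≃+* F) (A : Matrix (Fin 3) (Fin 3) F) : (bl A).map σ = bl (A.map σ) := by
  rw [bl_apply, bl_apply, reindex_apply, ← submatrix_map, fromBlocks_map, reindex_apply]
  congr 2
  · ext; simp
  · ext; simp
  · ext i j
    obtain rfl : i = j := Subsingleton.elim _ _
    simp

theorem bl_eq_smul {A : Matrix (Fin 3) (Fin 3) F} {c : F} : bl A = c • 1 ↔ A = 1 ∧ c = 1 := by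
  constructor
  · intro h
    have h1 : Matrix.fromBlocks A 0 0 (1 : Matrix (Fin 1) (Fin 1) F) =
        c • (1 : Matrix (Fin 3 ⊕ Fin 1) (Fin 3 ⊕ Fin 1) F) := by
      apply (Matrix.reindex (finSumFinEquiv (m := 3) (n := 1)) (finSumFinEquiv (m := 3) (n := 1)) (α := F)).injective
      rw [← bl_apply, h]
      simp only [reindex_apply, submatrix_smul, Pi.smul_apply]
      simp
    rw [← fromBlocks_one, fromBlocks_smul, fromBlocks_inj] at h1
    obtain ⟨h1, -, -, h4⟩ := h1
    have hc : c = 1 := by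
      have := congrFun (congrFun h4 0) 0
      simpa using this.symm
    subst hc
    exact ⟨by rw [h1, one_smul], rfl⟩
  · rintro ⟨rfl, rfl⟩
    rw [map_one, one_smul]

/-- on invertible matrices -/
def blG : GL (Fin 3) F →* GL (Fin 4) F := Units.map bl

theorem coe_blG (A : GL (Fin 3) F) : (blG A : Matrix (Fin 4) (Fin 4) F) = bl (A : Matrix (Fin 3) (Fin 3) F) := rfl

theorem det_blG (A : GL (Fin 3) F) : Matrix.GeneralLinearGroup.det (blG A) = Matrix.GeneralLinearGroup.det A := by
  apply Units.ext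
  exact bl_det _

theorem mapGL_blG (σ : F ≃+* F) (A : GL (Fin 3) F) : mapGL σ (blG A) = blG (mapGL σ A) := by
  apply Units.ext
  rw [coe_mapGL, coe_blG, bl_map]
  rfl

theorem itGL_blG (A : GL (Fin 3) F) : itGL (blG A) = blG (itGL A) := by
  apply Units.ext
  rw [coe_itGL, ← map_inv, coe_blG, bl_transpose]
  rfl

theorem psi_blG_pow_eq_one (A : GL (Fin 3) F) (m : ℕ) : Psi 4 F (blG A) ^ m = 1 ↔ A ^ m = 1 := by
  rw [psi_pow_eq_one_iff (by norm_num), coe_blG, ← map_pow]
  constructor
  · rintro ⟨c, hc⟩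
    apply Units.ext
    rw [Units.val_pow_eq_pow_val, (bl_eq_smul.1 hc).1, Units.val_one]
  · intro h
    refine ⟨1, ?_⟩
    rw [bl_eq_smul, ← Units.val_pow_eq_pow_val, h, Units.val_one]
    exact ⟨rfl, rfl⟩

end block

/-! ### multiplications -/

section field

variable {F K : Type*} [Field F] [Field K] [Algebra F K] (b : Module.Basis (Fin 3) F K)

/-- the matrix of the multiplication by `x` -/
noncomputable def Mu : Kˣ →* GL (Fin 3) F := Units.map (Algebra.leftMulMatrix b).toRingHom.toMonoidHom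

theorem coe_Mu (x : Kˣ) : (Mu b x : Matrix (Fin 3) (Fin 3) F) = Algebra.leftMulMatrix b (x : K) := rfl

theorem Mu_injective : Function.Injective (Mu b) := by
  intro x y h
  apply Units.ext
  exact Algebra.leftMulMatrix_injective b (congrArg Units.val h)

/-- the torus -/
noncomputable def T : Kˣ →* GL (Fin 4) F := blG.comp (Mu b)

theorem T_apply (x : Kˣ) : T b x = blG (Mu b x) := rfl

theorem det_T (x : Kˣ) : Matrix.GeneralLinearGroup.det (T b x) = Units.map (Algebra.norm F (S := K)) x := by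
  rw [T_apply, det_blG]
  apply Units.ext
  exact (Algebra.norm_eq_matrix_det b (x : K)).symm

theorem psi_T_pow (x : Kˣ) (m : ℕ) : Psi 4 F (T b x) ^ m = 1 ↔ x ^ m = 1 := by
  rw [T_apply, psi_blG_pow_eq_one, ← map_pow, ← map_one (Mu b), (Mu_injective b).eq_iff]

theorem orderOf_psi_T (x : Kˣ) : orderOf (Psi 4 F (T b x)) = orderOf x := by
  rw [orderOf_eq_orderOf_iff]
  exact psi_T_pow b x

variable {σ : F ≃+* F} {θ : K ≃+* K} (hθ : ∀ a, θ (algebraMap F K a) = algebraMap F K (σ a)) (hb : ∀ i, θ (b i) = b i)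

include hθ hb

theorem map_leftMulMatrix (x : K) : (Algebra.leftMulMatrix b x).map σ = Algebra.leftMulMatrix b (θ x) := by
  ext i j
  rw [Matrix.map_apply, Algebra.leftMulMatrix_eq_repr_mul, Algebra.leftMulMatrix_eq_repr_mul]
  have h1 : θ x * b j = ∑ k, σ (b.repr (x * b j) k) • b k := by
    calc θ x * b j = θ (x * b j) := by rw [map_mul, hb]
      _ = θ (∑ k, b.repr (x * b j) k • b k) := by rw [b.sum_repr]
      _ = _ := by
        rw [map_sum]
        refine Finset.sum_congr rfl fun k _ => ?_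
        rw [Algebra.smul_def, map_mul, hθ, hb, Algebra.smul_def]
  rw [h1]
  simp only [map_sum, map_smul, Module.Basis.repr_self, Finsupp.smul_single, smul_eq_mul, mul_one,
    Finsupp.finsetSum_apply]
  simp [Finsupp.single_apply]

theorem mapGL_T (x : Kˣ) : mapGL σ (T b x) = T b (Units.map (θ : K →* K) x) := by
  rw [T_apply, mapGL_blG, T_apply]
  congr 1
  apply Units.ext
  exact map_leftMulMatrix b hθ hb (x : K)

/-- the trace is compatible with the automorphisms -/
theorem trace_theta (x : K) : σ (Algebra.trace F K x) = Algebra.trace F K (θ x) := by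
  rw [Algebra.trace_eq_matrix_trace b, Algebra.trace_eq_matrix_trace b, ← map_leftMulMatrix b hθ hb, ← RingEquiv.coe_toRingHom,
    AddMonoidHom.map_trace]

omit hθ hb in
/-- the Gram matrix times a multiplication is symmetric -/
theorem gram_mul (x : K) : Algebra.traceMatrix F b * Algebra.leftMulMatrix b x =
    Matrix.of fun i j => Algebra.trace F K (b i * x * b j) := by
  ext i j
  rw [Matrix.mul_apply, Matrix.of_apply]
  have h1 : b i * x * b j = ∑ k, Algebra.leftMulMatrix b x k j • (b i * b k) := by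
    have h2 : x * b j = ∑ k, Algebra.leftMulMatrix b x k j • b k := by
      simp only [Algebra.leftMulMatrix_eq_repr_mul]
      exact (b.sum_repr _).symm
    rw [mul_assoc, h2, Finset.mul_sum]
    exact Finset.sum_congr rfl fun k _ => by rw [mul_smul_comm]
  rw [h1, map_sum]
  refine Finset.sum_congr rfl fun k _ => ?_
  rw [map_smul, smul_eq_mul, mul_comm]
  rfl

omit hθ hb in
theorem gram_symm (x : K) : (Algebra.traceMatrix F b * Algebra.leftMulMatrix b x)ᵀ =
    Algebra.traceMatrix F b * Algebra.leftMulMatrix b x := by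
  rw [gram_mul]
  ext i j
  rw [transpose_apply, of_apply, of_apply]
  congr 1
  ring

theorem gram_map : (Algebra.traceMatrix F b).map σ = Algebra.traceMatrix F b := by
  ext i j
  rw [Matrix.map_apply, Algebra.traceMatrix_apply, Algebra.traceForm_apply, trace_theta b hθ hb, map_mul, hb, hb]

end field

/-! ### the extension of the involution -/

theorem exists_theta {F K : Type*} [Field F] [Field K] [Finite K] [Algebra F K] (hK : Nat.card K = Nat.card F ^ 3)
    {σ : F ≃+* F} {q₀ : ℕ} (hF : Nat.card F = q₀ ^ 2) (hσ : ∀ a, σ a = a ^ q₀) :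
    ∃ θ : K ≃+* K, (∀ x, θ x = x ^ q₀ ^ 3) ∧ θ * θ = 1 ∧ ∀ a, θ (algebraMap F K a) = algebraMap F K (σ a) := by
  have : Finite F := Finite.of_injective _ (algebraMap F K).injective
  have : Fintype K := Fintype.ofFinite K
  obtain ⟨p, hp⟩ := CharP.exists K
  obtain ⟨m, hpp, hm⟩ := FiniteField.card K p
  have hpf := Fact.mk hpp
  have hq0 : q₀ ^ 3 ∣ p ^ (m : ℕ) := by
    rw [← hm, ← Nat.card_eq_fintype_card, hK, hF, ← pow_mul]
    exact pow_dvd_pow _ (by norm_num)
  obtain ⟨j, -, hj⟩ := (Nat.dvd_prime_pow hpp).1 hq0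
  have hθ : ∀ x, iterateFrobeniusEquiv K p j x = x ^ q₀ ^ 3 := fun x => by
    rw [iterateFrobeniusEquiv_def, hj]
  refine ⟨iterateFrobeniusEquiv K p j, hθ, ?_, fun a => ?_⟩
  · ext x
    rw [RingAut.mul_apply, RingAut.one_apply, hθ, hθ, ← pow_mul, ← pow_add]
    have h1 : q₀ ^ (3 + 3) = Fintype.card K := by
      rw [← Nat.card_eq_fintype_card, hK, hF, ← pow_mul]
    rw [h1, FiniteField.pow_card]
  · rw [hθ, ← map_pow]
    congr 1
    have : Fintype F := Fintype.ofFinite F
    have h1 : a ^ q₀ ^ 2 = a := by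
      rw [← hF, Nat.card_eq_fintype_card, FiniteField.pow_card]
    rw [pow_succ, pow_mul, h1, hσ]

theorem exists_basis_fixed {F K : Type*} [Field F] [Field K] [Finite K] [Algebra F K]
    (hK : Module.finrank F K = 3) {σ : F ≃+* F} (hσ : orderOf σ = 2) {θ : K ≃+* K} (hθ2 : θ * θ = 1)
    (hθ : ∀ a, θ (algebraMap F K a) = algebraMap F K (σ a)) :
    ∃ b : Module.Basis (Fin 3) F K, ∀ i, θ (b i) = b i := by
  have : FiniteDimensional F K := FiniteDimensional.of_finrank_pos (by rw [hK]; norm_num)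
  have hs : Semi (θ : Equiv.Perm K) σ :=
    ⟨fun u v => map_add θ u v, fun a v => by
      change θ (a • v) = σ a • θ v
      rw [Algebra.smul_def, map_mul, hθ, Algebra.smul_def]⟩
  obtain ⟨b, hb⟩ := exists_basis hs hσ (by norm_num) (by
    ext x
    rw [sq]
    exact DFunLike.congr_fun hθ2 x) (ι := Fin 3) (by rw [hK, Fintype.card_fin])
  exact ⟨b, hb⟩

end Cfsg.Agent.H363.L4.Out
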